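import Groth.Agent.Resolve.K891.Cut2
import Groth.Agent.Brnch.K580.HullBij
import Mathlib.RingTheory.Flat.FaithfullyFlat.Algebra
import Mathlib.RingTheory.Flat.Localization
import Mathlib.RingTheory.RingHom.Smooth

/-!
# (5b) from its two parts
-/

set_option autoImplicit false

universe u

open IsLocalRing K84.Iface

namespace K891.FiveB

open K891.Cut

variable {K B : Type u} [Field K] [CommRing B] [Algebra K B] {r : ℕ} {t : Fin r → B} {q : Ideal B} [q.IsPrime]

theorem faithfullyFlat (H : SHChart K B t q) :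
    letI := H.toLoc.toAlgebra; Module.FaithfullyFlat (Localization.AtPrime q) H.S := by
  let : Algebra (Localization.AtPrime q) H.S := H.toLoc.toAlgebra
  have tw : IsScalarTower B (Localization.AtPrime q) H.S :=
    IsScalarTower.of_algebraMap_eq fun b => (H.toLoc_algebraMap b).symm
  have h1 : Module.Flat B H.S := K580.HullBij.flat H.isIndEtale
  have h2 : Module.Flat (Localization.AtPrime q) H.S :=
    (Module.flat_iff_of_isLocalization (Localization.AtPrime q) q.primeCompl H.S).mpr h1
  have h3 : IsLocalHom (algebraMap (Localization.AtPrime q) H.S) := by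
    refine ((IsLocalRing.local_hom_TFAE (algebraMap (Localization.AtPrime q) H.S)).out 0 3).mpr ?_
    rw [← Localization.AtPrime.map_eq_maximalIdeal, Ideal.map_le_iff_le_comap, Ideal.comap_comap,
      ← IsScalarTower.algebraMap_eq, H.comap_maximalIdeal]
  exact Module.FaithfullyFlat.of_flat_of_isLocalHom

theorem span_eq_of_toLoc (H : SHChart K B t q) (x y : Localization.AtPrime q)
    (h : Ideal.span {H.toLoc x} = Ideal.span {H.toLoc y}) : Ideal.span {x} = Ideal.span {y} := by
  let : Algebra (Localization.AtPrime q) H.S := H.toLoc.toAlgebra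
  have h1 : Module.FaithfullyFlat (Localization.AtPrime q) H.S := faithfullyFlat H
  have h2 : ∀ z : Localization.AtPrime q, (Ideal.span {z}).map (algebraMap _ H.S) = Ideal.span {H.toLoc z} := by
    intro z
    rw [Ideal.map_span, Set.image_singleton]
    rfl
  rw [← Ideal.comap_map_eq_self_of_faithfullyFlat (B := H.S) (Ideal.span {x}),
    ← Ideal.comap_map_eq_self_of_faithfullyFlat (B := H.S) (Ideal.span {y}), h2, h2, h]

/-- associated elements of `B_q` come from associated elements up to elements outside `q` -/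
theorem exists_mul_eq [IsDomain B] (x y : B)
    (h : Ideal.span {algebraMap B (Localization.AtPrime q) x} = Ideal.span {algebraMap B (Localization.AtPrime q) y}) :
    ∃ s c : B, s ∉ q ∧ c ∉ q ∧ x * s = y * c := by
  rw [Ideal.span_singleton_eq_span_singleton] at h
  obtain ⟨u, hu⟩ := h
  obtain ⟨c, s, hcs⟩ := IsLocalization.exists_mk'_eq q.primeCompl (u : Localization.AtPrime q)
  have hinj : Function.Injective (algebraMap B (Localization.AtPrime q)) :=
    IsLocalization.injective _ (Ideal.primeCompl_le_nonZeroDivisors q)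
  have hc : c ∉ q := by
    intro hc
    have h1 : IsUnit (IsLocalization.mk' (Localization.AtPrime q) c s) := by rw [hcs]; exact u.isUnit
    rw [IsLocalization.AtPrime.isUnit_mk'_iff (Localization.AtPrime q) q] at h1
    exact h1 hc
  refine ⟨c, s, hc, s.2, hinj ?_⟩
  have h2 : (u : Localization.AtPrime q) * algebraMap B _ (s : B) = algebraMap B _ c := by
    rw [← hcs, IsLocalization.mk'_spec]
  rw [map_mul, map_mul, ← hu, ← h2]
  ring

/-- **(5b)** -/
theorem of_parts (K : Type u) [Field K] (hI : PartI K) (hII : PartII K) : FiveB K := by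
  classical
  intro B _ _ _ _ _ r t q _ H
  obtain ⟨σ, hσ⟩ := hI B r t q H
  obtain ⟨f₀, hf₀, ψ₀, hψK, hψs, hψσ⟩ := hII B r t q H σ hσ
  let B₀ := Localization.Away f₀
  -- numerators
  have hnum : ∀ i : H.I, ∃ b : B, ∃ k : ℕ,
      ψ₀ (AddMonoidAlgebra.single ⟨ax i (H.d i : ℤ), H.d_mem i, ax_nonneg i (by positivity)⟩ 1) *
        algebraMap B B₀ (f₀ ^ k) = algebraMap B B₀ b := by
    intro i
    obtain ⟨⟨b, s⟩, hb⟩ := IsLocalization.surj (Submonoid.powers f₀)
      (ψ₀ (AddMonoidAlgebra.single ⟨ax i (H.d i : ℤ), H.d_mem i, ax_nonneg i (by positivity)⟩ 1))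
    obtain ⟨k, hk⟩ := s.2
    have hk' : f₀ ^ k = s := hk
    exact ⟨b, k, (congrArg (fun z => _ * algebraMap B B₀ z) hk').trans hb⟩
  choose b k hbk using hnum
  have hspan : ∀ i : H.I, Ideal.span {algebraMap B (Localization.AtPrime q) (t i)} =
      Ideal.span {algebraMap B (Localization.AtPrime q) (b i)} := by
    intro i
    apply span_eq_of_toLoc H
    have h1 := congrArg (awayTo f₀ hf₀) (hbk i)
    rw [map_mul, hψσ] at h1
    have h2 : ∀ x : B, awayTo f₀ hf₀ (algebraMap B B₀ x) = algebraMap B (Localization.AtPrime q) x :=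
      fun x => IsLocalization.Away.lift_eq f₀ _ x
    rw [h2, h2] at h1
    rw [← h1, map_mul]
    have h3 : IsUnit (H.toLoc (algebraMap B (Localization.AtPrime q) (f₀ ^ k i))) := by
      rw [map_pow]
      exact ((IsLocalization.map_units (Localization.AtPrime q) (⟨f₀, hf₀⟩ : q.primeCompl)).pow _).map _
    rw [Ideal.span_singleton_mul_right_unit h3, hσ, H.τ_ax, H.toLoc_algebraMap]
  choose s c hs hc hsc using fun i : H.I => exists_mul_eq (q := q) (t i) (b i) (hspan i)
  let f₁ : B := (∏ i : H.I, (s i * c i)) * ∏ j : Fin r, if j ∈ H.I then 1 else t j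
  have hf₁ : f₁ ∉ q := by
    intro h
    rcases Ideal.IsPrime.mem_or_mem inferInstance h with h | h
    · rw [Ideal.IsPrime.prod_mem_iff] at h
      obtain ⟨i, -, h⟩ := h
      rcases Ideal.IsPrime.mem_or_mem inferInstance h with h | h
      · exact hs i h
      · exact hc i h
    · rw [Ideal.IsPrime.prod_mem_iff] at h
      obtain ⟨j, -, h⟩ := h
      by_cases hj : j ∈ H.I
      · rw [if_pos hj] at h
        exact (Ideal.IsPrime.ne_top (inferInstance : q.IsPrime)) ((Ideal.eq_top_iff_one _).mpr h)
      · rw [if_neg hj] at h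
        exact hj ((H.mem_I j).mpr h)
  let B₁ := Localization.Away (algebraMap B B₀ f₁)
  have hloc : IsLocalization.Away (f₀ * f₁) B₁ := IsLocalization.Away.mul' B₀ B₁ f₀ f₁
  let f := f₀ * f₁
  let ε : B₁ ≃ₐ[B] Localization.Away f := IsLocalization.algEquiv (Submonoid.powers f) B₁ (Localization.Away f)
  let θ : B₀ →+* Localization.Away f := (ε : B₁ →+* Localization.Away f).comp (algebraMap B₀ B₁)
  have hθ : ∀ x : B, θ (algebraMap B B₀ x) = algebraMap B (Localization.Away f) x := by
    intro x
    change ε (algebraMap B₀ B₁ (algebraMap B B₀ x)) = _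
    rw [← IsScalarTower.algebraMap_apply, AlgEquiv.commutes]
  have hfu : IsUnit (algebraMap B (Localization.Away f) f) := IsLocalization.Away.algebraMap_isUnit f
  have hf₀u : IsUnit (algebraMap B (Localization.Away f) f₀) :=
    isUnit_of_dvd_unit (map_dvd _ (Dvd.intro _ rfl)) hfu
  have hf₁u : IsUnit (algebraMap B (Localization.Away f) f₁) :=
    isUnit_of_dvd_unit (map_dvd _ (Dvd.intro_left _ rfl)) hfu
  refine ⟨f, ?_, θ.comp ψ₀, ?_, ?_, ?_, ?_⟩
  · intro h
    rcases Ideal.IsPrime.mem_or_mem inferInstance h with h | h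
    · exact hf₀ h
    · exact hf₁ h
  · intro a
    rw [RingHom.comp_apply, hψK, IsScalarTower.algebraMap_apply K B B₀, hθ, ← IsScalarTower.algebraMap_apply]
  · refine RingHom.Smooth.comp hψs ?_
    refine RingHom.Smooth.comp ?_ (RingHom.Smooth.of_bijective ε.bijective)
    rw [RingHom.smooth_algebraMap]
    infer_instance
  · intro i
    have h1 : algebraMap B (Localization.Away f) (t i) * algebraMap B (Localization.Away f) (s i) =
        algebraMap B (Localization.Away f) (b i) * algebraMap B (Localization.Away f) (c i) := by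
      rw [← map_mul, ← map_mul, hsc]
    have h2 := congrArg θ (hbk i)
    rw [map_mul, hθ, hθ] at h2
    have hd : s i * c i ∣ f₁ := Dvd.dvd.mul_right (Finset.dvd_prod_of_mem (fun i => s i * c i) (Finset.mem_univ i)) _
    have hsu : IsUnit (algebraMap B (Localization.Away f) (s i)) :=
      isUnit_of_dvd_unit (map_dvd _ ((Dvd.intro _ rfl).trans hd)) hf₁u
    have hcu : IsUnit (algebraMap B (Localization.Away f) (c i)) :=
      isUnit_of_dvd_unit (map_dvd _ ((Dvd.intro_left _ rfl).trans hd)) hf₁u
    rw [← Ideal.span_singleton_mul_right_unit hsu, h1, Ideal.span_singleton_mul_right_unit hcu, ← h2,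
      map_pow, Ideal.span_singleton_mul_right_unit (hf₀u.pow _)]
    rfl
  · intro j hj
    have hd : t j ∣ f₁ := by
      refine Dvd.dvd.mul_left ?_ _
      have := Finset.dvd_prod_of_mem (fun j : Fin r => if j ∈ H.I then 1 else t j) (Finset.mem_univ j)
      simpa [hj] using this
    exact isUnit_of_dvd_unit (map_dvd _ hd) hf₁u

end K891.FiveB
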