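import Groth.Agent.Resolve.K891.FiveA
import Groth.Agent.Resolve.K891.FiveB
import Groth.Agent.Pi1.H411.Chart
import Groth.Agent.Divis.IdealComap
import Groth.Agent.Ega2.Normal
import Mathlib.AlgebraicGeometry.Morphisms.SchemeTheoreticallyDominant

/-!
# Node C: from the ring level to schemes
-/

set_option autoImplicit false

universe u

open CategoryTheory AlgebraicGeometry K84.Iface

namespace K891.NodeC

open K891.Cut

/-- a Zariski chart at the prime `q`, ring form -/
structure RChart (K B : Type u) [Field K] [CommRing B] [Algebra K B] {r : ℕ} (t : Fin r → B) (q : Ideal B) where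
  I : Finset (Fin r)
  M : AddSubgroup (I → ℤ)
  d : I → ℕ
  d_pos : ∀ i, 0 < d i
  d_mem : ∀ i, ax i (d i : ℤ) ∈ M
  onto : ∀ i, ∃ m ∈ M, m i = 1
  f : B
  hf : f ∉ q
  ψ : AddMonoidAlgebra K (pos M) →+* Localization.Away f
  ψ_k : ∀ c : K, ψ (AddMonoidAlgebra.single 0 c) = algebraMap K (Localization.Away f) c
  smooth : ψ.Smooth
  ideal_mem : ∀ i : I, Ideal.span {algebraMap B (Localization.Away f) (t i)} =
    Ideal.span {ψ (AddMonoidAlgebra.single ⟨ax i (d i : ℤ), d_mem i, ax_nonneg i (by positivity)⟩ 1)}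
  ideal_notMem : ∀ j ∉ I, IsUnit (algebraMap B (Localization.Away f) (t j))

theorem rchart_of (K : Type u) [Field K] (hB : FiveB K) (B : Type u) [CommRing B] [IsDomain B]
    [IsIntegrallyClosed B] [Algebra K B] [Algebra.FiniteType K B] {r : ℕ} (t : Fin r → B) (q : Ideal B) [q.IsPrime]
    (h : Nonempty (SHChart K B t q)) : Nonempty (RChart K B t q) := by
  obtain ⟨H⟩ := h
  obtain ⟨f, hf, ψ, h1, h2, h3, h4⟩ := hB B r t q H
  exact ⟨{ I := H.I, M := H.M, d := H.d, d_pos := H.d_pos, d_mem := H.d_mem, onto := H.onto, f := f, hf := hf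
           ψ := ψ, ψ_k := h1, smooth := h2, ideal_mem := h3, ideal_notMem := h4 }⟩

section Sch

variable {K : Type u} [Field K] {X : Scheme.{u}} (p : X ⟶ Spec (CommRingCat.of K))

/-- restriction of the structure map -/
theorem map_kmap {U V : X.Opens} (i : U ⟶ V) (c : K) :
    (X.presheaf.map i.op).hom (kmap p V c) = kmap p U c := by
  have h : kmap p U = (X.presheaf.map i.op).hom.comp (kmap p V) := by
    rw [kmap, kmap, ← CommRingCat.hom_comp, Category.assoc, Scheme.Hom.appLE_map]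
  rw [h]
  rfl

/-- primes and basic opens -/
theorem mem_basicOpen_iff {V : X.Opens} (hV : IsAffineOpen V) (x : V) (f : Γ(X, V)) :
    x.1 ∈ X.basicOpen f ↔ f ∉ (hV.primeIdealOf x).asIdeal := by
  have h1 : hV.primeIdealOf x ∈ hV.fromSpec ⁻¹ᵁ X.basicOpen f ↔ hV.primeIdealOf x ∈ PrimeSpectrum.basicOpen f := by
    rw [hV.fromSpec_preimage_basicOpen]
    exact Iff.rfl
  rw [← hV.fromSpec_primeIdealOf x]
  exact h1

theorem exists_equiv {X : Scheme.{u}} (V : X.affineOpens) (f : Γ(X, V.1)) :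
    ∃ ε : Localization.Away f ≃+* Γ(X, (X.affineBasicOpen f).1), ∀ b : Γ(X, V.1),
      ε (algebraMap Γ(X, V.1) (Localization.Away f) b) = (X.presheaf.map (homOfLE (X.basicOpen_le f)).op).hom b := by
  have hUl : IsLocalization.Away f Γ(X, X.basicOpen f) := V.2.isLocalization_basicOpen f
  let ε : Localization.Away f ≃ₐ[Γ(X, V.1)] Γ(X, X.basicOpen f) :=
    IsLocalization.algEquiv (Submonoid.powers f) _ _
  exact ⟨ε.toRingEquiv, fun b => ε.commutes b⟩

/-- a ring chart gives a chart -/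
theorem chart_of_rchart {r : ℕ} (F : Fin r → X.IdealSheafData) (V : X.affineOpens) (x : V.1)
    (t : Fin r → Γ(X, V.1)) (ht : ∀ i, (F i).ideal V = Ideal.span {t i})
    (R : letI := (kmap p V.1).toAlgebra; RChart K Γ(X, V.1) t (V.2.primeIdealOf x).asIdeal) :
    ∃ U : X.affineOpens, x.1 ∈ U.1 ∧ Nonempty (Chart p F U) := by
  let : Algebra K Γ(X, V.1) := (kmap p V.1).toAlgebra
  obtain ⟨ε, hres⟩ := exists_equiv V R.f
  refine ⟨X.affineBasicOpen R.f, (mem_basicOpen_iff V.2 x R.f).mpr R.hf, ⟨?_⟩⟩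
  have hFU : ∀ i, (F i).ideal (X.affineBasicOpen R.f) =
      (Ideal.span {algebraMap Γ(X, V.1) (Localization.Away R.f) (t i)}).map
      (ε : Localization.Away R.f →+* Γ(X, (X.affineBasicOpen R.f).1)) := by
    intro i
    rw [← (F i).map_ideal_basicOpen V R.f, ht, Ideal.map_span, Ideal.map_span, Set.image_singleton,
      Set.image_singleton]
    congr 2
    exact (hres (t i)).symm
  exact
    { I := R.I
      M := R.M
      d := R.d
      d_pos := R.d_pos
      d_mem := R.d_mem
      onto := R.onto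
      ψ := (ε : Localization.Away R.f →+* Γ(X, (X.affineBasicOpen R.f).1)).comp R.ψ
      ψ_k := fun c => by
        rw [RingHom.comp_apply, R.ψ_k, IsScalarTower.algebraMap_apply K Γ(X, V.1) (Localization.Away R.f)]
        refine (hres _).trans ?_
        exact map_kmap p _ c
      smooth := R.smooth.comp (RingHom.Smooth.of_bijective ε.bijective)
      ideal_mem := fun i => by
        rw [hFU, R.ideal_mem, Ideal.map_span, Set.image_singleton]
        rfl
      ideal_notMem := fun j hj => by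
        rw [hFU, Ideal.map_span, Set.image_singleton]
        exact Ideal.span_singleton_eq_top.mpr ((R.ideal_notMem j hj).map _) }

end Sch

section Coords

variable {K : Type u} [Field K]

/-- étale coordinates adapted to a normal crossing family, ring form -/
structure RCoords {P : Scheme.{u}} (p : P ⟶ Spec (CommRingCat.of K)) {r : ℕ} (D : Fin r → P.IdealSheafData)
    (V : P.affineOpens) where
  n : ℕ
  φ : MvPolynomial (Fin n) K →+* Γ(P, V.1)
  etale : φ.Etale
  φ_C : ∀ c, φ (MvPolynomial.C c) = kmap p V.1 c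
  s : Fin r → Option (Fin n)
  inj : ∀ i j k, s i = some k → s j = some k → i = j
  ideal_none : ∀ i, s i = none → (D i).ideal V = ⊤
  ideal_some : ∀ i k, s i = some k → (D i).ideal V = Ideal.span {φ (MvPolynomial.X k)}

theorem exists_coords_of_through {P : Scheme.{u}} (p : P ⟶ Spec (CommRingCat.of K)) {r : ℕ}
    (D : Fin r → P.IdealSheafData) (hD : LogNCD.IsNCD D p) (y : P) (hy : Nonempty (LogNCD.Through D y)) :
    ∃ V : P.affineOpens, y ∈ V.1 ∧ Nonempty (RCoords p D V) := by
  classical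
  obtain ⟨W, hyW, n, v, e, he, het, hv, hv'⟩ := hD y hy
  obtain ⟨V, hV, hyV, hVW⟩ := exists_isAffineOpen_mem_and_subset (x := y) (U := W) hyW
  have h1 := Groth.Agent.Pi1.H411.Chart.etale_eval₂Hom_appLE p ⊤ (isAffineOpen_top _) V hV (by simp) W hVW v het
  let ε : MvPolynomial (Fin n) K ≃+* MvPolynomial (ULift.{u} (Fin n)) Γ(Spec (CommRingCat.of K), ⊤) :=
    ((MvPolynomial.renameEquiv K (Equiv.ulift.{u, 0}.symm : Fin n ≃ ULift.{u} (Fin n))).toRingEquiv).trans
      (MvPolynomial.mapEquiv _ (Scheme.ΓSpecIso (CommRingCat.of K)).symm.commRingCatIsoToRingEquiv)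
  have hC : ∀ c, ε (MvPolynomial.C c) = MvPolynomial.C ((Scheme.ΓSpecIso (CommRingCat.of K)).inv.hom c) := by
    intro c
    simp [ε]
    rfl
  have hX : ∀ k, ε (MvPolynomial.X k) = MvPolynomial.X (ULift.up k) := by
    intro k
    simp [ε]
  refine ⟨⟨V, hV⟩, hyV, ⟨⟨n, (MvPolynomial.eval₂Hom (p.appLE ⊤ V (by simp)).hom
      (fun j => P.presheaf.map (homOfLE hVW).op (W.topIso.hom (v j)))).comp ε.toRingHom, ?_, ?_,
      fun i => if h : y ∈ (D i).support then some (e ⟨i, h⟩) else none, ?_, ?_, ?_⟩⟩⟩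
  · exact (RingHom.Etale.respectsIso).2 _ _ h1
  · intro c
    rw [RingHom.comp_apply]
    refine (congrArg _ (hC c)).trans ?_
    rw [MvPolynomial.eval₂Hom_C]
    rfl
  · intro i j k hi hj
    by_cases hi' : y ∈ (D i).support <;> by_cases hj' : y ∈ (D j).support <;>
      simp only [hi', hj', dite_true, dite_false, Option.some.injEq, reduceCtorEq] at hi hj
    exact congrArg Subtype.val (he (hi.trans hj.symm))
  · intro i hi
    by_cases hi' : y ∈ (D i).support <;>
      simp only [hi', dite_true, dite_false, reduceCtorEq] at hi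
    exact hv' i hi' ⟨V, hV⟩ hVW
  · intro i k hi
    by_cases hi' : y ∈ (D i).support <;>
      simp only [hi', dite_true, dite_false, Option.some.injEq, reduceCtorEq] at hi
    rw [hv ⟨i, hi'⟩ ⟨V, hV⟩ hVW, ← hi]
    congr 2
    rw [RingHom.comp_apply]
    refine Eq.trans ?_ (congrArg _ (hX _)).symm
    rw [MvPolynomial.eval₂Hom_X']
    rfl

theorem ideal_eq_top_of_disjoint {X : Scheme.{u}} (I : X.IdealSheafData) (V : X.affineOpens)
    (h : ∀ x ∈ V.1, x ∉ I.support) : I.ideal V = ⊤ := by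
  rw [← PrimeSpectrum.zeroLocus_empty_iff_eq_top]
  have h1 := I.coe_support_inter V
  have h2 := V.2.fromSpec_image_zeroLocus (I.ideal V)
  rw [← h1] at h2
  have h3 : ((I.support : Set X) ∩ (V.1 : Set X)) = ∅ := by
    ext x
    simp only [Set.mem_inter_iff, Set.mem_empty_iff_false, iff_false, not_and]
    exact fun hx hV => h x hV hx
  rw [h3, Set.image_eq_empty] at h2
  exact h2

theorem notMem_support_of_mem_basicOpen {X : Scheme.{u}} (I : X.IdealSheafData) (V : X.affineOpens)
    (t : Γ(X, V.1)) (h : I.ideal V = Ideal.span {t}) (x : X) (hx : x ∈ V.1) (hxt : x ∈ X.basicOpen t) :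
    x ∉ I.support := by
  intro hs
  rw [Scheme.IdealSheafData.mem_support_iff_of_mem hx, Scheme.mem_zeroLocus_iff] at hs
  exact hs t (by rw [h]; exact Ideal.mem_span_singleton_self t) hxt

theorem exists_coords_of_not_through {P : Scheme.{u}} (p : P ⟶ Spec (CommRingCat.of K)) [Smooth p] {r : ℕ}
    (D : Fin r → P.IdealSheafData) (y : P) (hy : ∀ i, y ∉ (D i).support) :
    ∃ V : P.affineOpens, y ∈ V.1 ∧ Nonempty (RCoords p D V) := by
  obtain ⟨U, hU, V, hV, hyV, e, hst⟩ := Smooth.exists_isStandardSmooth p y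
  have hUtop : U = ⊤ := by
    refine top_le_iff.mp fun z _ => ?_
    have : z = p y := Subsingleton.elim _ _
    rw [this]
    exact e hyV
  subst hUtop
  obtain ⟨n, g, hg, het⟩ := hst.exists_etale_mvPolynomial
  let O : P.Opens := ⟨(⋃ i, ((D i).support : Set P))ᶜ,
    (isClosed_iUnion_of_finite fun i => (D i).support.isClosed).isOpen_compl⟩
  have hyO : y ∈ O := fun h => by
    obtain ⟨i, hi⟩ := Set.mem_iUnion.mp h
    exact hy i hi
  obtain ⟨V, rfl⟩ : ∃ V' : P.affineOpens, V'.1 = V := ⟨⟨V, hV⟩, rfl⟩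
  obtain ⟨f, hfO, hyf⟩ := hV.exists_basicOpen_le (V := O) ⟨y, hyO⟩ hyV
  have : IsLocalization.Away f Γ(P, P.basicOpen f) := hV.isLocalization_basicOpen f
  let ρ : Γ(P, V.1) →+* Γ(P, (P.affineBasicOpen f).1) := (P.presheaf.map (homOfLE (P.basicOpen_le f)).op).hom
  have hρ : ρ.Etale := by
    have : Algebra.Etale Γ(P, V.1) Γ(P, P.basicOpen f) := Algebra.Etale.of_isLocalizationAway f
    exact RingHom.etale_algebraMap.mpr this
  let ε : MvPolynomial (Fin n) K ≃+* MvPolynomial (Fin n) Γ(Spec (CommRingCat.of K), ⊤) :=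
    MvPolynomial.mapEquiv _ (Scheme.ΓSpecIso (CommRingCat.of K)).symm.commRingCatIsoToRingEquiv
  have hC : ∀ c, ε (MvPolynomial.C c) = MvPolynomial.C ((Scheme.ΓSpecIso (CommRingCat.of K)).inv.hom c) := by
    intro c
    simp [ε]
    rfl
  refine ⟨P.affineBasicOpen f, hyf, ⟨⟨n, ρ.comp (g.comp ε.toRingHom), ?_, ?_, fun _ => none, ?_, ?_, ?_⟩⟩⟩
  · exact RingHom.Etale.stableUnderComposition _ _ ((RingHom.Etale.respectsIso).2 _ _ het) hρ
  · intro c
    rw [RingHom.comp_apply, RingHom.comp_apply]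
    refine (congrArg (fun z => ρ (g z)) (hC c)).trans ?_
    have h2 : g (MvPolynomial.C ((Scheme.ΓSpecIso (CommRingCat.of K)).inv.hom c)) = kmap p V.1 c :=
      congr($hg ((Scheme.ΓSpecIso (CommRingCat.of K)).inv.hom c))
    refine (congrArg ρ h2).trans ?_
    exact map_kmap p _ c
  · intro i j k hi
    simp at hi
  · intro i _
    exact ideal_eq_top_of_disjoint _ _ fun z hz hzi => hfO hz (Set.mem_iUnion.mpr ⟨i, hzi⟩)
  · intro i k hi
    simp at hi

theorem exists_coords {P : Scheme.{u}} (p : P ⟶ Spec (CommRingCat.of K)) [Smooth p] {r : ℕ}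
    (D : Fin r → P.IdealSheafData) (hD : LogNCD.IsNCD D p) (y : P) :
    ∃ V : P.affineOpens, y ∈ V.1 ∧ Nonempty (RCoords p D V) := by
  by_cases hy : Nonempty (LogNCD.Through D y)
  · exact exists_coords_of_through p D hD y hy
  · exact exists_coords_of_not_through p D y fun i hi => hy ⟨⟨i, hi⟩⟩

theorem rchart_main [CharZero K] (hI : K891.Cut.PartI K) (hII : K891.Cut.PartII K) {A B : Type u} [CommRing A]
    [IsDomain A] [CommRing B] [IsDomain B] [IsIntegrallyClosed B] (kA : K →+* A) (kB : K →+* B) (f : A →+* B)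
    (hk : kB = f.comp kA) (hf : f.Finite) (hinj : Function.Injective f) (n : ℕ)
    (φ : MvPolynomial (Fin n) K →+* A) (hφ : φ.Etale) (hφC : ∀ c, φ (MvPolynomial.C c) = kA c) {r : ℕ}
    (x : Fin r → A) (s : Fin r → Option (Fin n)) (inj : ∀ i j k, s i = some k → s j = some k → i = j)
    (hsome : ∀ i k, s i = some k → x i = φ (MvPolynomial.X k)) (hnone : ∀ i, s i = none → IsUnit (x i))
    (het : ((algebraMap B (Localization.Away (f (∏ i, x i)))).comp f).Etale) (q : Ideal B) [q.IsPrime] :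
    letI := kB.toAlgebra; Nonempty (RChart K B (fun i => f (x i)) q) := by
  subst hk
  let : Algebra K A := kA.toAlgebra
  let : Algebra K B := (f.comp kA).toAlgebra
  let : Algebra A B := f.toAlgebra
  let : Algebra (MvPolynomial (Fin n) K) A := φ.toAlgebra
  have h1 : IsScalarTower K A B := IsScalarTower.of_algebraMap_eq fun c => rfl
  have h2 : IsScalarTower K (MvPolynomial (Fin n) K) A := IsScalarTower.of_algebraMap_eq fun c => (hφC c).symm
  have h3 : Algebra.Etale (MvPolynomial (Fin n) K) A := hφ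
  have h4 : Module.Finite A B := hf
  have h5 : FaithfulSMul A B := (faithfulSMul_iff_algebraMap_injective A B).mpr hinj
  have h6 : Algebra.FiniteType K A := by
    have : Algebra.FiniteType (MvPolynomial (Fin n) K) A := inferInstance
    exact Algebra.FiniteType.trans (S := MvPolynomial (Fin n) K) inferInstance this
  have h7 : Algebra.FiniteType K B := Algebra.FiniteType.trans (S := A) h6 inferInstance
  refine rchart_of K (FiveB.of_parts K hI hII) B _ q ?_
  choose e he using fun i : {i // (s i).isSome} => Option.isSome_iff_exists.mp i.2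
  exact FiveA.main' K A B n r x (fun i => (s i).isSome) e
    (fun i j hij => Subtype.ext (inj i.1 j.1 (e i) (he i) (by rw [he j, hij]))) (fun i => hsome _ _ (he i))
    (fun i hi => hnone i (by simpa using hi)) (RingHom.etale_algebraMap.mp het) q

theorem kmap_comp {X P : Scheme.{u}} (g : X ⟶ P) (p : P ⟶ Spec (CommRingCat.of K)) (V : P.Opens) :
    kmap (g ≫ p) (g ⁻¹ᵁ V) = (g.app V).hom.comp (kmap p V) := by
  rw [kmap, kmap, ← CommRingCat.hom_comp, Category.assoc]
  congr 2
  rw [Scheme.Hom.app_eq_appLE, Scheme.Hom.appLE_comp_appLE]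

theorem etale_appLE {X P : Scheme.{u}} (g : X ⟶ P) (U : P.Opens) (het : Etale (g ∣_ U)) (V : P.Opens)
    (hV : IsAffineOpen V) (W : X.Opens) (hW : IsAffineOpen W) (e : W ≤ g ⁻¹ᵁ V) (hWU : W ≤ g ⁻¹ᵁ U) :
    (g.appLE V W e).hom.Etale := by
  have : IsAffine (V : Scheme.{u}) := hV
  have : IsAffine (W : Scheme.{u}) := hW
  have h1 : Etale (W.ι ≫ g) := by
    have h2 : W.ι ≫ g = X.homOfLE hWU ≫ (g ∣_ U) ≫ U.ι := by
      rw [morphismRestrict_ι, ← Category.assoc, Scheme.homOfLE_ι]
    rw [h2]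
    infer_instance
  have h3 : Etale (g.resLE V W e) := by
    have h4 : g.resLE V W e ≫ V.ι = W.ι ≫ g := by simp
    have h5 : Etale (g.resLE V W e ≫ V.ι) := by rw [h4]; exact h1
    exact MorphismProperty.of_postcomp (W := @Etale) (W' := @Etale) _ V.ι inferInstance h5
  have h6 := (HasRingHomProperty.iff_of_isAffine (P := @Etale)).mp h3
  rw [← Groth.Agent.Pi1.H411.Chart.resLE_appTop_topIso g V W e]
  have h7 := RingHom.Etale.respectsIso.1 _ W.topIso.commRingCatIsoToRingEquiv h6
  exact RingHom.Etale.respectsIso.2 _ V.topIso.symm.commRingCatIsoToRingEquiv h7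

theorem main (K : Type u) [Field K] [CharZero K] (hI : K891.Cut.PartI K) (hII : K891.Cut.PartII K) : NodeC K := by
  classical
  intro P X p g hP hX hnorm hsm hqc hsep hfin hsurj r D hD U hU het x
  obtain ⟨V, hyV, ⟨C⟩⟩ := exists_coords p D hD (g x)
  have hVne : Nonempty V.1 := ⟨⟨g x, hyV⟩⟩
  have hV' : IsAffineOpen (g ⁻¹ᵁ V.1) := V.2.preimage g
  have hV'ne : Nonempty (g ⁻¹ᵁ V.1) := ⟨⟨x, hyV⟩⟩
  have : IsDomain Γ(P, V.1) := inferInstance
  have : IsDomain Γ(X, g ⁻¹ᵁ V.1) := inferInstance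
  have : IsIntegrallyClosed Γ(X, g ⁻¹ᵁ V.1) :=
    Groth.Agent.Ega2.Normal.isIntegrallyClosed_of_isAffineOpen hnorm hV' hV'ne
  let φ := C.φ
  let y : Fin r → Γ(P, V.1) := fun i => match C.s i with
    | none => 1
    | some k => C.φ (MvPolynomial.X k)
  have hsome : ∀ i k, C.s i = some k → y i = C.φ (MvPolynomial.X k) := fun i k h => by simp only [y, h]
  have hnone : ∀ i, C.s i = none → y i = 1 := fun i h => by simp only [y, h]
  have hideal : ∀ i, (D i).ideal V = Ideal.span {y i} := by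
    intro i
    rcases h : C.s i with _ | k
    · rw [hnone i h, C.ideal_none i h, Ideal.span_singleton_one]
    · rw [hsome i k h, C.ideal_some i k h]
  have hinj : Function.Injective (g.app V.1).hom := by
    have : IsSchemeTheoreticallyDominant g := .of_isDominant g
    exact g.app_injective V.1
  have hfinite : (g.app V.1).hom.Finite := IsFinite.finite_app g V.1 V.2
  have hideal' : ∀ i, ((D i).comap g).ideal ⟨g ⁻¹ᵁ V.1, hV'⟩ = Ideal.span {(g.app V.1).hom (y i)} := by
    intro i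
    rw [Groth.Agent.Divis.IdealComap.ideal_comap (D i) g V ⟨g ⁻¹ᵁ V.1, hV'⟩ le_rfl, hideal, Ideal.map_span,
      Set.image_singleton, ← Scheme.Hom.app_eq_appLE]
  have het' : ((algebraMap Γ(X, g ⁻¹ᵁ V.1) (Localization.Away ((g.app V.1).hom (∏ i, y i)))).comp
      (g.app V.1).hom).Etale := by
    obtain ⟨ε, hε⟩ := exists_equiv ⟨g ⁻¹ᵁ V.1, hV'⟩ ((g.app V.1).hom (∏ i, y i))
    have hle : X.basicOpen ((g.app V.1).hom (∏ i, y i)) ≤ g ⁻¹ᵁ V.1 := X.basicOpen_le _
    have hleU : X.basicOpen ((g.app V.1).hom (∏ i, y i)) ≤ g ⁻¹ᵁ U := by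
      intro z hz
      have hgz : g z ∈ P.basicOpen (∏ i, y i) := by
        rw [← Scheme.Hom.mem_preimage, Scheme.preimage_basicOpen]
        exact hz
      change g z ∈ (U : Set P)
      rw [hU]
      intro hs
      obtain ⟨i, hi⟩ := Set.mem_iUnion.mp hs
      refine notMem_support_of_mem_basicOpen (D i) V (y i) (hideal i) (g z) (hle hz) ?_ hi
      rw [Finset.prod_eq_mul_prod_sdiff_singleton_of_mem (Finset.mem_univ i), P.basicOpen_mul] at hgz
      exact hgz.1
    have h1 := etale_appLE g U het V.1 V.2 _ (X.affineBasicOpen (U := ⟨g ⁻¹ᵁ V.1, hV'⟩)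
      ((g.app V.1).hom (∏ i, y i))).2 hle hleU
    have h2 : (algebraMap Γ(X, g ⁻¹ᵁ V.1) (Localization.Away ((g.app V.1).hom (∏ i, y i)))).comp
        (g.app V.1).hom = (ε.symm.toRingHom).comp (g.appLE V.1 (X.affineBasicOpen (U := ⟨g ⁻¹ᵁ V.1, hV'⟩)
      ((g.app V.1).hom (∏ i, y i))).1 hle).hom := by
      ext a
      apply ε.injective
      refine (hε _).trans ?_
      refine Eq.trans ?_ (ε.apply_symm_apply _).symm
      rfl
    rw [h2]
    exact RingHom.Etale.respectsIso.1 _ ε.symm h1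
  exact chart_of_rchart (g ≫ p) _ ⟨g ⁻¹ᵁ V.1, hV'⟩ ⟨x, hyV⟩ (fun i => (g.app V.1).hom (y i)) hideal'
    (Classical.choice (rchart_main hI hII (kmap p V.1) (kmap (g ≫ p) (g ⁻¹ᵁ V.1)) (g.app V.1).hom (kmap_comp g p V.1)
      hfinite hinj C.n C.φ C.etale C.φ_C y C.s C.inj hsome (fun i hi => by rw [hnone i hi]; exact isUnit_one) het'
      (hV'.primeIdealOf ⟨x, hyV⟩).asIdeal))

end Coords

end K891.NodeC
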