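import Groth.Agent.Resolve.K891.Cut

/-!
# FiveB: the cut between the monomials (part I) and the smoothness (part II)
-/

universe u

open K84.Iface

namespace K891.Cut

open IsLocalRing

attribute [instance] SHChart.commRing SHChart.algebraB SHChart.algebraK SHChart.tower SHChart.isLocalRing
  SHChart.isNoetherianRing

section

variable {K B : Type u} [Field K] [CommRing B] [Algebra K B] {r : ℕ} {t : Fin r → B} {q : Ideal B} [q.IsPrime]

theorem SHChart.isUnit (H : SHChart K B t q) (s : q.primeCompl) : IsUnit (algebraMap B H.S s) := by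
  by_contra h
  have h1 : algebraMap B H.S s ∈ maximalIdeal H.S := h
  rw [← Ideal.mem_comap, H.comap_maximalIdeal] at h1
  exact s.2 h1

/-- the map `B_q → S` of a chart -/
noncomputable def SHChart.toLoc (H : SHChart K B t q) : Localization.AtPrime q →+* H.S :=
  IsLocalization.lift (M := q.primeCompl) (g := algebraMap B H.S) H.isUnit

theorem SHChart.toLoc_algebraMap (H : SHChart K B t q) (b : B) :
    H.toLoc (algebraMap B _ b) = algebraMap B H.S b := IsLocalization.lift_eq _ b

/-- the map `B_f → B_q` for `f ∉ q` -/
noncomputable def awayTo (f : B) (hf : f ∉ q) : Localization.Away f →+* Localization.AtPrime q :=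
  IsLocalization.Away.lift f (g := algebraMap B (Localization.AtPrime q))
    (IsLocalization.map_units (Localization.AtPrime q) (⟨f, hf⟩ : q.primeCompl))

end

/-- **(5b), part I**: descent of the monomials to `B_q`. -/
def PartI (K : Type u) [Field K] : Prop :=
  ∀ (B : Type u) [CommRing B] [IsDomain B] [IsIntegrallyClosed B] [Algebra K B] [Algebra.FiniteType K B]
    (r : ℕ) (t : Fin r → B) (q : Ideal B) [q.IsPrime] (H : SHChart K B t q),
    ∃ σ : Multiplicative (pos H.M) →* Localization.AtPrime q,
      ∀ m, Ideal.span {H.toLoc (σ m)} = Ideal.span {H.τ m}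

/-- **(5b), part II**: smoothness of the descended chart near `q`. -/
def PartII (K : Type u) [Field K] : Prop :=
  ∀ (B : Type u) [CommRing B] [IsDomain B] [IsIntegrallyClosed B] [Algebra K B] [Algebra.FiniteType K B]
    (r : ℕ) (t : Fin r → B) (q : Ideal B) [q.IsPrime] (H : SHChart K B t q)
    (σ : Multiplicative (pos H.M) →* Localization.AtPrime q),
    (∀ m, Ideal.span {H.toLoc (σ m)} = Ideal.span {H.τ m}) →
    ∃ (f : B) (hf : f ∉ q) (ψ : AddMonoidAlgebra K (pos H.M) →+* Localization.Away f),
      (∀ c : K, ψ (AddMonoidAlgebra.single 0 c) = algebraMap K (Localization.Away f) c) ∧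
      ψ.Smooth ∧ ∀ m : pos H.M, awayTo f hf (ψ (AddMonoidAlgebra.single m 1)) = σ (Multiplicative.ofAdd m)

end K891.Cut
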