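import Groth.Agent.SGA1.K151.KumStruct
import Groth.Agent.Resolve.K84.Iface

/-!
# Normal subalgebras of Kummer algebras are monomial

`A` strictly henselian regular, `R` an integrally closed subalgebra of `A[T_i]/(T_i^{n_i} - f_i)`. Then `R` is
`⊕ A T^a` over the `a` in a box with `T^a ∈ R`; rescaled form with a lattice `M ⊆ ℤ^J` with surjective coordinates.
-/

set_option autoImplicit false

universe u

open IsLocalRing K151.KumStruct Groth.Agent.Sga1.Kummer Groth.Agent.Sga1 K84.Iface

namespace K891.KumSub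

section Basis

variable {A : Type u} [CommRing A] [IsDomain A] {r : ℕ} (f : Fin r → A) (n : Fin r → ℕ)
  [Fintype (Gal A n)] (hζ : ∀ i, ∃ z : A, IsPrimitiveRoot z (n i))
  (hu : IsUnit ((Fintype.card (Gal A n) : ℕ) : A))

include hζ hu in
theorem coeff_zero (hf0 : ∀ a : Fin r → ℕ, ∀ c : A, c • mon f n a = 0 → c = 0)
    (c : ((i : Fin r) → Fin (n i)) → A) (h : ∑ a, c a • mon f n (fun i => (a i : ℕ)) = 0)
    (b : (i : Fin r) → Fin (n i)) : c b = 0 := by
  have h1 := S_sum f n hζ 0 c h.symm b
  rw [map_zero] at h1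
  have h2 := hf0 _ _ h1.symm
  exact (hu.mul_right_eq_zero).mp h2

end Basis

section Sub

variable {A : Type u} [CommRing A] [IsRegularLocalRing A] [IsDomain A] {r : ℕ} (f : Fin r → A)
  (hm : ∀ i, f i ∈ maximalIdeal A)
  (hf : LinearIndependent (ResidueField A) (fun i => (maximalIdeal A).toCotangent ⟨f i, hm i⟩))
  (n : Fin r → ℕ) [Fintype (Gal A n)] (hn : ∀ i, 1 ≤ n i)
  (hζ : ∀ i, ∃ z : A, IsPrimitiveRoot z (n i))
  (hu : IsUnit ((Fintype.card (Gal A n) : ℕ) : A))

include hm hf hn in
omit [IsDomain A] [Fintype (Gal A n)] in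
theorem mon_ne_zero (a : Fin r → ℕ) : mon f n a ≠ 0 := by
  have hdom := AbhLocal.isDomain_kummer A f hm hf n hn
  rw [mon, Finset.prod_ne_zero_iff]
  exact fun i _ => pow_ne_zero _ (Groth.Agent.Sga7.H510.KumAlg.T_prime f n hm hf hn i).ne_zero

include hm hf hn in
omit [Fintype (Gal A n)] in
theorem smul_mon_eq_zero (a : Fin r → ℕ) (c : A) (h : c • mon f n a = 0) : c = 0 := by
  have hdom := AbhLocal.isDomain_kummer A f hm hf n hn
  have hinj := AbhLocal.injective_kummer A f n hn
  rw [smul_eq] at h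
  rcases mul_eq_zero.mp h with h | h
  · exact (map_eq_zero_iff _ hinj).mp h
  · exact absurd h (mon_ne_zero f hm hf n hn a)

variable (R : Subalgebra A (SGA1.kummerAlg A f n)) [IsDomain R] [IsIntegrallyClosed R]

include hm hf hn hζ hu in
/-- each term of an element of `R` is in `R`, and the monomial too unless its coefficient vanishes -/
theorem mon_mem_of_coeff (x : SGA1.kummerAlg A f n) (hx : x ∈ R) (c : ((i : Fin r) → Fin (n i)) → A)
    (hc : x = ∑ a, c a • mon f n (fun i => (a i : ℕ))) (a : (i : Fin r) → Fin (n i)) (hca : c a ≠ 0) :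
    mon f n (fun i => (a i : ℕ)) ∈ R := by
  have hinj := AbhLocal.injective_kummer A f n hn
  have h2 := S_mem f hm hf n hn hζ hu R (fun i => (a i : ℕ)) x hx
  rw [S_sum f n hζ _ c hc a, smul_eq] at h2
  refine mem_of_mul f hm hf n hn R _ _ (R.algebraMap_mem _) ?_ h2
  rw [Ne, map_eq_zero_iff _ hinj]
  exact mul_ne_zero hu.ne_zero hca

end Sub

section Lattice

/-- the box `0 ≤ m < d` in `pos M` -/
def Box {J : Type} (M : AddSubgroup (J → ℤ)) (d : J → ℕ) : Type := {m : pos M // ∀ j, m.1 j < d j}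

variable {A : Type u} [CommRing A] {r : ℕ} (f : Fin r → A) (n : Fin r → ℕ) {J : Type} (e : Fin r ≃ J)

/-- `T^a` for `a : J → ℕ` -/
noncomputable def monJ (a : J → ℕ) : SGA1.kummerAlg A f n := mon f n (fun i => a (e i))

theorem monJ_zero : monJ f n e 0 = 1 := mon_zero f n

theorem monJ_add (a b : J → ℕ) : monJ f n e (a + b) = monJ f n e a * monJ f n e b := mon_add f n _ _

variable (R : Subalgebra A (SGA1.kummerAlg A f n))

/-- the lattice of the monomials of `R` -/
def Lam : AddSubgroup (J → ℤ) where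
  carrier := {m | ∃ a b : J → ℕ, (∀ j, m j = (a j : ℤ) - b j) ∧ monJ f n e a ∈ R ∧ monJ f n e b ∈ R}
  zero_mem' := ⟨0, 0, fun j => by simp, by rw [monJ_zero]; exact R.one_mem, by rw [monJ_zero]; exact R.one_mem⟩
  add_mem' := by
    rintro m m' ⟨a, b, h, ha, hb⟩ ⟨a', b', h', ha', hb'⟩
    refine ⟨a + a', b + b', fun j => ?_, ?_, ?_⟩
    · simp only [Pi.add_apply, h, h', Nat.cast_add]; ring
    · rw [monJ_add]; exact R.mul_mem ha ha'
    · rw [monJ_add]; exact R.mul_mem hb hb'
  neg_mem' := by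
    rintro m ⟨a, b, h, ha, hb⟩
    exact ⟨b, a, fun j => by simp only [Pi.neg_apply, h]; ring, hb, ha⟩

end Lattice

section Main

variable {A : Type u} [CommRing A] [IsRegularLocalRing A] [IsDomain A] {r : ℕ} (f : Fin r → A)
  (hm : ∀ i, f i ∈ maximalIdeal A)
  (hf : LinearIndependent (ResidueField A) (fun i => (maximalIdeal A).toCotangent ⟨f i, hm i⟩))
  (n : Fin r → ℕ) [Fintype (Gal A n)] (hn : ∀ i, 1 ≤ n i)
  (hζ : ∀ i, ∃ z : A, IsPrimitiveRoot z (n i))
  (hu : IsUnit ((Fintype.card (Gal A n) : ℕ) : A)) {J : Type} (e : Fin r ≃ J)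
  (R : Subalgebra A (SGA1.kummerAlg A f n)) [IsDomain R] [IsIntegrallyClosed R]

include hm hf hn in
omit [IsDomain A] [Fintype (Gal A n)] in
theorem monJ_mem_iff (a : J → ℕ) : monJ f n e a ∈ R ↔ (fun j => (a j : ℤ)) ∈ Lam f n e R := by
  constructor
  · intro h
    exact ⟨a, 0, fun j => by simp, h, by rw [monJ_zero]; exact R.one_mem⟩
  · rintro ⟨a', b', h, ha', hb'⟩
    refine mem_of_mul f hm hf n hn R _ (monJ f n e b') hb' (mon_ne_zero f hm hf n hn _) ?_
    rw [← monJ_add]
    convert ha' using 2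
    funext j
    have h1 : (a j : ℤ) = (a' j : ℤ) - b' j := h j
    simp only [Pi.add_apply]
    omega

include hm hf hn hζ hu in
/-- **Structure of normal subalgebras of Kummer algebras.** -/
theorem main : ∃ (M : AddSubgroup (J → ℤ)) (d : J → ℕ) (hd : ∀ j, 0 < d j)
    (hmem : ∀ j, ax j (d j : ℤ) ∈ M) (_ : ∀ j, ∃ m ∈ M, m j = 1) (τ : Multiplicative (pos M) →* R),
    (∀ j, τ (Multiplicative.ofAdd ⟨ax j (d j : ℤ), hmem j, ax_nonneg j (by positivity)⟩) =
      algebraMap A R (f (e.symm j))) ∧
    LinearIndependent A (fun m : Box M d => τ (Multiplicative.ofAdd m.1)) ∧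
    Submodule.span A (Set.range (fun m : Box M d => τ (Multiplicative.ofAdd m.1))) = ⊤ := by
  classical
  have hdom := AbhLocal.isDomain_kummer A f hm hf n hn
  -- `n_j e_j` is in the lattice
  have hnmem : ∀ j : J, ax j ((n (e.symm j) : ℕ) : ℤ) ∈ Lam f n e R := by
    intro j
    have h1 : monJ f n e (fun j' => if j' = j then n (e.symm j) else 0) ∈ R := by
      have h2 : monJ f n e (fun j' => if j' = j then n (e.symm j) else 0) =
          algebraMap A _ (f (e.symm j)) := by
        rw [monJ, mon, Finset.prod_eq_single (e.symm j)]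
        · rw [if_pos (e.apply_symm_apply j), T_pow]
        · intro i _ hi
          rw [if_neg (fun h => hi (by rw [← h, e.symm_apply_apply])), pow_zero]
        · simp
      rw [h2]
      exact R.algebraMap_mem _
    rw [monJ_mem_iff f hm hf n hn e R] at h1
    convert h1 using 1
    funext j'
    by_cases hj : j' = j
    · subst hj
      rw [ax_self, if_pos rfl]
    · rw [ax_ne hj, if_neg hj]
      rfl
  -- the generators of the projections
  have hg : ∀ j : J, ∃ g : ℕ, 0 < g ∧ (∃ m ∈ Lam f n e R, m j = g) ∧ ∀ m ∈ Lam f n e R, (g : ℤ) ∣ m j := by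
    intro j
    obtain ⟨c, hc⟩ := Int.subgroup_cyclic ((Lam f n e R).map (Pi.evalAddMonoidHom (fun _ : J => ℤ) j))
    have hc' : ∀ x : ℤ, x ∈ (Lam f n e R).map (Pi.evalAddMonoidHom (fun _ : J => ℤ) j) ↔ c ∣ x := by
      intro x
      rw [hc, ← AddSubgroup.zmultiples_eq_closure, Int.mem_zmultiples_iff]
    have hc0 : c ≠ 0 := by
      intro h0
      have h1 : ((n (e.symm j) : ℕ) : ℤ) ∈ (Lam f n e R).map (Pi.evalAddMonoidHom (fun _ : J => ℤ) j) :=
        ⟨_, hnmem j, ax_self j _⟩
      rw [hc', h0, zero_dvd_iff] at h1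
      have := hn (e.symm j)
      omega
    refine ⟨c.natAbs, Int.natAbs_pos.mpr hc0, ?_, fun m hmΛ => ?_⟩
    · have h1 : ((c.natAbs : ℕ) : ℤ) ∈ (Lam f n e R).map (Pi.evalAddMonoidHom (fun _ : J => ℤ) j) := by
        rw [hc', Int.dvd_natCast]
      obtain ⟨m, hmΛ, h2⟩ := h1
      exact ⟨m, hmΛ, h2⟩
    · rw [Int.natAbs_dvd, ← hc']
      exact ⟨m, hmΛ, rfl⟩
  choose g hg0 hg1 hg2 using hg
  have hgn : ∀ j, ∃ k : ℕ, n (e.symm j) = g j * k := by
    intro j
    have h1 := hg2 j _ (hnmem j)
    rw [ax_self, Int.natCast_dvd_natCast] at h1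
    exact h1
  choose d hd using hgn
  have hd0 : ∀ j, 0 < d j := by
    intro j
    rcases Nat.eq_zero_or_pos (d j) with h | h
    · have h1 := hn (e.symm j)
      rw [hd j, h, mul_zero] at h1
      omega
    · exact h
  let sc : (J → ℤ) →+ (J → ℤ) :=
    { toFun := fun m j => g j * m j
      map_zero' := by funext j; simp
      map_add' := fun a b => by funext j; simp [mul_add] }
  let M : AddSubgroup (J → ℤ) := (Lam f n e R).comap sc
  have hM : ∀ m : J → ℤ, m ∈ M ↔ (fun j => (g j : ℤ) * m j) ∈ Lam f n e R := fun m => Iff.rfl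
  have hdM : ∀ j, ax j (d j : ℤ) ∈ M := by
    intro j
    rw [hM]
    convert hnmem j using 1
    funext j'
    by_cases hj : j' = j
    · subst hj
      rw [ax_self, ax_self, hd, Nat.cast_mul]
    · rw [ax_ne hj, ax_ne hj, mul_zero]
  have honto : ∀ j, ∃ m ∈ M, m j = 1 := by
    intro j
    obtain ⟨l, hl, hlj⟩ := hg1 j
    choose m hm' using fun i => hg2 i l hl
    refine ⟨m, ?_, ?_⟩
    · rw [hM]
      convert hl using 1
      funext i
      exact (hm' i).symm
    · have h1 := hm' j
      rw [hlj] at h1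
      have h2 : (g j : ℤ) ≠ 0 := by have := hg0 j; omega
      exact (mul_left_cancel₀ h2 (by rw [← h1, mul_one]))
  -- the monomials
  have hmonR : ∀ m : pos M, monJ f n e (fun j => g j * (m.1 j).toNat) ∈ R := by
    intro m
    rw [monJ_mem_iff f hm hf n hn e R]
    have h1 := (hM m.1).mp m.2.1
    convert h1 using 1
    funext j
    rw [Nat.cast_mul, Int.toNat_of_nonneg (m.2.2 j)]
  let τ : Multiplicative (pos M) →* R :=
    { toFun := fun m => ⟨_, hmonR m.toAdd⟩
      map_one' := by
        apply Subtype.ext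
        change monJ f n e (fun j => g j * ((0 : J → ℤ) j).toNat) = 1
        rw [← monJ_zero f n e]
        congr 1
      map_mul' := fun a b => by
        apply Subtype.ext
        change monJ f n e (fun j => g j * ((a.toAdd.1 + b.toAdd.1 : J → ℤ) j).toNat) =
          monJ f n e (fun j => g j * (a.toAdd.1 j).toNat) * monJ f n e (fun j => g j * (b.toAdd.1 j).toNat)
        rw [← monJ_add]
        congr 1
        funext j
        rw [Pi.add_apply, Pi.add_apply, Int.toNat_add (a.toAdd.2.2 j) (b.toAdd.2.2 j), mul_add] }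
  have hτ : ∀ m : pos M, ((τ (Multiplicative.ofAdd m) : R) : SGA1.kummerAlg A f n) =
      monJ f n e (fun j => g j * (m.1 j).toNat) := fun m => rfl
  -- comparison of the boxes
  have hbox : ∀ m : Box M d, ∀ i : Fin r, g (e i) * (m.1.1 (e i)).toNat < n i := by
    intro m i
    have h1 := hd (e i)
    rw [e.symm_apply_apply] at h1
    rw [h1]
    refine Nat.mul_lt_mul_of_pos_left ?_ (hg0 _)
    have h2 := m.2 (e i)
    have h3 := m.1.2.2 (e i)
    omega
  let β : Box M d → ((i : Fin r) → Fin (n i)) := fun m i => ⟨_, hbox m i⟩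
  have hβmon : ∀ m : Box M d, ((τ (Multiplicative.ofAdd m.1) : R) : SGA1.kummerAlg A f n) =
      mon f n (fun i => (β m i : ℕ)) := fun m => rfl
  have hβinj : Function.Injective β := by
    intro m m' h
    apply Subtype.ext
    apply Subtype.ext
    funext j
    have h1 := congrArg Fin.val (congrFun h (e.symm j))
    change g (e (e.symm j)) * (m.1.1 (e (e.symm j))).toNat =
      g (e (e.symm j)) * (m'.1.1 (e (e.symm j))).toNat at h1
    rw [e.apply_symm_apply] at h1
    have h2 := Nat.eq_of_mul_eq_mul_left (hg0 j) h1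
    have h3 := m.1.2.2 j
    have h4 := m'.1.2.2 j
    omega
  have hβsurj : ∀ a : (i : Fin r) → Fin (n i), mon f n (fun i => (a i : ℕ)) ∈ R → ∃ m, β m = a := by
    intro a ha
    have h1 : monJ f n e (fun j => (a (e.symm j) : ℕ)) = mon f n (fun i => (a i : ℕ)) := by
      rw [monJ]
      congr 1
      funext i
      rw [e.symm_apply_apply]
    rw [← h1, monJ_mem_iff f hm hf n hn e R] at ha
    choose m hm' using fun j => hg2 j _ ha
    have hm0 : ∀ j, 0 ≤ m j := by
      intro j
      have h2 := hm' j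
      have h3 : (0 : ℤ) < g j := by exact_mod_cast hg0 j
      have h4 : (0 : ℤ) ≤ g j * m j := by rw [← h2]; positivity
      exact nonneg_of_mul_nonneg_right h4 h3
    have hmM : m ∈ M := by
      rw [hM]
      convert ha using 1
      funext j
      exact (hm' j).symm
    have hmd : ∀ j, m j < d j := by
      intro j
      have h2 := hm' j
      have h3 : (0 : ℤ) < g j := by exact_mod_cast hg0 j
      have h4 : (g j : ℤ) * m j < g j * d j := by
        rw [← h2, ← Nat.cast_mul, ← hd j]
        exact_mod_cast (a (e.symm j)).2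
      exact lt_of_mul_lt_mul_left h4 h3.le
    refine ⟨⟨⟨m, hmM, hm0⟩, hmd⟩, ?_⟩
    funext i
    apply Fin.ext
    change g (e i) * (m (e i)).toNat = a i
    have h2 := hm' (e i)
    rw [e.symm_apply_apply] at h2
    have h3 := hm0 (e i)
    zify
    rw [Int.toNat_of_nonneg h3, ← h2]
  refine ⟨M, d, hd0, hdM, honto, τ, ?_, ?_, ?_⟩
  · intro j
    apply Subtype.ext
    rw [hτ]
    change monJ f n e (fun j' => g j' * ((ax j (d j : ℤ)) j').toNat) = algebraMap A _ (f (e.symm j))
    rw [monJ, mon, Finset.prod_eq_single (e.symm j)]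
    · rw [e.apply_symm_apply, ax_self, Int.toNat_natCast, ← hd, T_pow]
    · intro i _ hi
      have : e i ≠ j := fun h => hi (by rw [← h, e.symm_apply_apply])
      rw [ax_ne this, Int.toNat_zero, mul_zero, pow_zero]
    · simp
  · have h1 : LinearIndependent A (fun a : (i : Fin r) → Fin (n i) => mon f n (fun i => (a i : ℕ))) := by
      rw [Fintype.linearIndependent_iff]
      intro c hc b
      exact coeff_zero f n hζ hu (fun a c h => smul_mon_eq_zero f hm hf n hn a c h) c hc b
    exact LinearIndependent.of_comp R.val.toLinearMap (h1.comp β hβinj)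
  · rw [eq_top_iff]
    rintro ⟨x, hx⟩ -
    obtain ⟨c, hc⟩ := exists_sum f n hn x
    have h1 : (⟨x, hx⟩ : R) = ∑ a, c a •
        (if h : mon f n (fun i => (a i : ℕ)) ∈ R then (⟨_, h⟩ : R) else 0) := by
      apply Subtype.ext
      rw [← Subalgebra.coe_val, map_sum]
      refine hc.trans (Finset.sum_congr rfl fun a _ => ?_)
      rw [map_smul]
      by_cases hca : c a = 0
      · rw [hca, zero_smul, zero_smul]
      · have h2 := mon_mem_of_coeff f hm hf n hn hζ hu R x hx c hc a hca
        rw [dif_pos h2]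
        rfl
    rw [h1]
    refine Submodule.sum_mem _ fun a _ => Submodule.smul_mem _ _ ?_
    by_cases h : mon f n (fun i => (a i : ℕ)) ∈ R
    · rw [dif_pos h]
      obtain ⟨m, hm'⟩ := hβsurj a h
      refine Submodule.subset_span ⟨m, Subtype.ext ?_⟩
      rw [hβmon, hm']
    · rw [dif_neg h]
      exact Submodule.zero_mem _

end Main

end K891.KumSub
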