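import Groth.Agent.Resolve.K891.Cut
import Groth.Agent.Resolve.K891.KumSub
import Mathlib.RingTheory.Flat.Stability
import Mathlib.RingTheory.RegularLocalRing.Defs

/-!
# Kummer algebras `⊕ C t^l` as base changes of monoid algebras

If `(τ m)` for `m` in the box is a `C`-basis of `S`, then `S = K[Q] ⊗_{K[ℕ^J]} C`; consequences: flatness of
`K[Q] → S` and the fibre over the origin.
-/

set_option autoImplicit false

universe u

open K84.Iface K891.Cut TensorProduct

namespace K891.KumPush

open K891.KumSub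

section Combi

variable {J : Type} {M : AddSubgroup (J → ℤ)} {d : J → ℕ} (hmem : ∀ j, ax j (d j : ℤ) ∈ M)

/-- `d_j e_j` in `pos M` -/
noncomputable def axd (j : J) : pos M := ⟨ax j (d j : ℤ), hmem j, ax_nonneg j (by positivity)⟩

variable [Fintype J]

/-- `Σ k_j d_j e_j` -/
noncomputable def dv (k : J → ℕ) : pos M := ∑ j, k j • axd hmem j

theorem dv_apply (k : J → ℕ) (j : J) : (dv hmem k).1 j = k j * d j := by
  classical
  rw [dv, AddSubmonoid.coe_finsetSum, Finset.sum_apply, Finset.sum_eq_single j]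
  · rw [AddSubmonoidClass.coe_nsmul, Pi.smul_apply]
    change k j • ax j (d j : ℤ) j = _
    rw [ax_self, nsmul_eq_mul]
  · intro i _ hi
    rw [AddSubmonoidClass.coe_nsmul, Pi.smul_apply]
    change k i • ax i (d i : ℤ) j = _
    rw [ax_ne (Ne.symm hi), smul_zero]
  · simp

variable (hd : ∀ j, 0 < d j)
omit [Fintype J] in
theorem finite_box [Finite J] : Finite (Box M d) := by
  classical
  have h : ∀ (m : Box M d) (j : J), (m.1.1 j).toNat < d j := by
    intro m j
    have h1 := m.2 j
    have h2 := m.1.2.2 j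
    omega
  refine Finite.of_injective (fun (m : Box M d) (j : J) => (⟨_, h m j⟩ : Fin (d j))) ?_
  intro m m' hmm
  apply Subtype.ext
  apply Subtype.ext
  funext j
  have h1 := congrArg Fin.val (congrFun hmm j)
  simp only at h1
  have h2 := m.1.2.2 j
  have h3 := m'.1.2.2 j
  omega

include hd in
theorem exists_box (m : pos M) : ∃ (b : Box M d) (k : J → ℕ), m = b.1 + dv hmem k := by
  let k : J → ℕ := fun j => (m.1 j / d j).toNat
  have hk : ∀ j, (k j : ℤ) = m.1 j / d j := fun j =>
    Int.toNat_of_nonneg (Int.ediv_nonneg (m.2.2 j) (by positivity))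
  have hr : ∀ j, (m.1 - (dv hmem k).1) j = m.1 j % d j := by
    intro j
    rw [Pi.sub_apply, dv_apply, hk]
    have := Int.mul_ediv_add_emod (m.1 j) (d j)
    linarith [mul_comm (m.1 j / (d j : ℤ)) (d j : ℤ)]
  have hbM : m.1 - (dv hmem k).1 ∈ M := M.sub_mem m.2.1 (dv hmem k).2.1
  refine ⟨⟨⟨m.1 - (dv hmem k).1, hbM, fun j => ?_⟩, fun j => ?_⟩, k, ?_⟩
  · rw [hr]
    exact Int.emod_nonneg _ (by have := hd j; omega)
  · change (m.1 - (dv hmem k).1) j < d j
    rw [hr]
    exact Int.emod_lt_of_pos _ (by have := hd j; omega)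
  · apply Subtype.ext
    change m.1 = (m.1 - (dv hmem k).1) + (dv hmem k).1
    rw [sub_add_cancel]

end Combi

section Flat

variable {K : Type u} [Field K] {J : Type} [Fintype J] {M : AddSubgroup (J → ℤ)} {d : J → ℕ}
  (hd : ∀ j, 0 < d j) (hmem : ∀ j, ax j (d j : ℤ) ∈ M)
  {C S : Type u} [CommRing C] [CommRing S] [Algebra K C] [Algebra C S] [Algebra K S]
  [IsScalarTower K C S] (t : J → C) (τ : Multiplicative (pos M) →* S)
  (hτ : ∀ j, τ (Multiplicative.ofAdd (axd hmem j)) = algebraMap C S (t j))
  (hli : LinearIndependent C (fun m : Box M d => τ (Multiplicative.ofAdd m.1)))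
  (hspan : Submodule.span C (Set.range (fun m : Box M d => τ (Multiplicative.ofAdd m.1))) = ⊤)

include hτ in
theorem tau_dv (k : J → ℕ) : τ (Multiplicative.ofAdd (dv hmem k)) = algebraMap C S (∏ j, t j ^ k j) := by
  rw [dv, ofAdd_sum, map_prod, map_prod]
  refine Finset.prod_congr rfl fun j _ => ?_
  rw [ofAdd_nsmul, map_pow, hτ, map_pow]

/-- the `K[ℕ^J]`-algebra structure of `C` -/
noncomputable abbrev algC : Algebra (MvPolynomial J K) C := (MvPolynomial.aeval t : MvPolynomial J K →ₐ[K] C).toAlgebra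

/-- the `K[ℕ^J]`-algebra structure of `K[Q]` -/
noncomputable abbrev algQ : Algebra (MvPolynomial J K) (AddMonoidAlgebra K (pos M)) :=
  (MvPolynomial.aeval (fun j => AddMonoidAlgebra.single (axd hmem j) (1 : K)) :
    MvPolynomial J K →ₐ[K] AddMonoidAlgebra K (pos M)).toAlgebra

omit [Fintype J] in
theorem lift_single' (m : pos M) (c : K) :
    lift K τ (AddMonoidAlgebra.single m c) = algebraMap K S c * τ (Multiplicative.ofAdd m) := by
  change AddMonoidAlgebra.lift K S (pos M) τ (AddMonoidAlgebra.single m c) = _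
  rw [AddMonoidAlgebra.lift_single, Algebra.smul_def]

theorem single_dv (k : J → ℕ) : (AddMonoidAlgebra.single (dv hmem k) (1 : K) : AddMonoidAlgebra K (pos M)) =
    ∏ j, (AddMonoidAlgebra.single (axd hmem j) (1 : K)) ^ k j := by
  have h : ∀ m : pos M, (AddMonoidAlgebra.single m (1 : K) : AddMonoidAlgebra K (pos M)) =
      AddMonoidAlgebra.of K (pos M) (Multiplicative.ofAdd m) := fun m => rfl
  rw [h, dv, ofAdd_sum, map_prod]
  refine Finset.prod_congr rfl fun j _ => ?_
  rw [ofAdd_nsmul, map_pow, h]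

include hd in
/-- generation of `K[Q] ⊗ C` by the box -/
theorem exists_sum_box [Fintype (Box M d)] :
    letI := algC (K := K) t; letI := algQ (K := K) hmem
    ∀ z : AddMonoidAlgebra K (pos M) ⊗[MvPolynomial J K] C, ∃ c : Box M d → C,
      z = ∑ b : Box M d, (AddMonoidAlgebra.single b.1 (1 : K) : AddMonoidAlgebra K (pos M)) ⊗ₜ[MvPolynomial J K] c b := by
  classical
  let := algC (K := K) t
  let := algQ (K := K) hmem
  intro z
  have hzero : ∃ c : Box M d → C, (0 : AddMonoidAlgebra K (pos M) ⊗[MvPolynomial J K] C) =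
      ∑ b : Box M d, (AddMonoidAlgebra.single b.1 (1 : K) : AddMonoidAlgebra K (pos M)) ⊗ₜ[MvPolynomial J K] c b :=
    ⟨fun _ => 0, by simp⟩
  have hadd : ∀ z z' : AddMonoidAlgebra K (pos M) ⊗[MvPolynomial J K] C,
      (∃ c : Box M d → C, z = ∑ b : Box M d, (AddMonoidAlgebra.single b.1 (1 : K) : AddMonoidAlgebra K (pos M)) ⊗ₜ[MvPolynomial J K] c b) →
      (∃ c : Box M d → C, z' = ∑ b : Box M d, (AddMonoidAlgebra.single b.1 (1 : K) : AddMonoidAlgebra K (pos M)) ⊗ₜ[MvPolynomial J K] c b) →
      ∃ c : Box M d → C, z + z' = ∑ b : Box M d, (AddMonoidAlgebra.single b.1 (1 : K) : AddMonoidAlgebra K (pos M)) ⊗ₜ[MvPolynomial J K] c b := by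
    rintro z z' ⟨c, rfl⟩ ⟨c', rfl⟩
    refine ⟨c + c', ?_⟩
    rw [← Finset.sum_add_distrib]
    exact Finset.sum_congr rfl fun b _ => by rw [Pi.add_apply, TensorProduct.tmul_add]
  induction z with
  | zero => exact hzero
  | add z z' hz hz' => exact hadd z z' hz hz'
  | tmul x c =>
    induction x using AddMonoidAlgebra.induction_linear with
    | zero => rw [TensorProduct.zero_tmul]; exact hzero
    | add x y hx hy => rw [TensorProduct.add_tmul]; exact hadd _ _ hx hy
    | single m a =>
      obtain ⟨b, k, rfl⟩ := exists_box hmem hd m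
      let p : MvPolynomial J K := MvPolynomial.C a * ∏ j, MvPolynomial.X j ^ k j
      have hp : (AddMonoidAlgebra.single (b.1 + dv hmem k) a : AddMonoidAlgebra K (pos M)) =
          p • AddMonoidAlgebra.single b.1 (1 : K) := by
        rw [Algebra.smul_def]
        have h1 : algebraMap (MvPolynomial J K) (AddMonoidAlgebra K (pos M)) p =
            AddMonoidAlgebra.single (dv hmem k) a := by
          change MvPolynomial.aeval (fun j => AddMonoidAlgebra.single (axd hmem j) (1 : K)) p = _
          simp only [p, map_mul, map_prod, map_pow, MvPolynomial.aeval_X, MvPolynomial.aeval_C]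
          rw [← single_dv, AddMonoidAlgebra.coe_algebraMap]
          simp [AddMonoidAlgebra.single_mul_single]
        rw [h1, AddMonoidAlgebra.single_mul_single, mul_one, add_comm]
      rw [hp, TensorProduct.smul_tmul]
      refine ⟨Pi.single b (p • c), ?_⟩
      rw [Finset.sum_eq_single b]
      · rw [Pi.single_eq_same]
      · intro b' _ hb'
        rw [Pi.single_eq_of_ne hb', TensorProduct.tmul_zero]
      · simp

include hd hτ hli hspan in
theorem flat (hflat : (MvPolynomial.aeval t : MvPolynomial J K →ₐ[K] C).toRingHom.Flat) :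
    (lift K τ).Flat := by
  classical
  have : Finite (Box M d) := finite_box
  let : Fintype (Box M d) := Fintype.ofFinite _
  let := algC (K := K) t
  let := algQ (K := K) hmem
  let : Algebra (AddMonoidAlgebra K (pos M)) S := (lift K τ).toAlgebra
  let : Algebra (MvPolynomial J K) S := ((algebraMap C S).comp (algebraMap (MvPolynomial J K) C)).toAlgebra
  have h1 : IsScalarTower (MvPolynomial J K) C S := IsScalarTower.of_algebraMap_eq fun _ => rfl
  have h2 : IsScalarTower (MvPolynomial J K) (AddMonoidAlgebra K (pos M)) S := by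
    refine IsScalarTower.of_algebraMap_eq' ?_
    refine MvPolynomial.ringHom_ext (fun a => ?_) (fun j => ?_)
    · change algebraMap C S (MvPolynomial.aeval t (MvPolynomial.C a)) =
        lift K τ (MvPolynomial.aeval (fun j => AddMonoidAlgebra.single (axd hmem j) (1 : K)) (MvPolynomial.C a))
      rw [MvPolynomial.aeval_C, MvPolynomial.aeval_C, ← IsScalarTower.algebraMap_apply]
      exact ((AddMonoidAlgebra.lift K S (pos M) τ).commutes a).symm
    · change algebraMap C S (MvPolynomial.aeval t (MvPolynomial.X j)) =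
        lift K τ (MvPolynomial.aeval (fun j => AddMonoidAlgebra.single (axd hmem j) (1 : K)) (MvPolynomial.X j))
      rw [MvPolynomial.aeval_X, MvPolynomial.aeval_X, lift_single', map_one, one_mul, hτ]
  let Φ : AddMonoidAlgebra K (pos M) ⊗[MvPolynomial J K] C →ₐ[AddMonoidAlgebra K (pos M)] S :=
    Algebra.TensorProduct.lift (Algebra.ofId _ _) (IsScalarTower.toAlgHom (MvPolynomial J K) C S)
      (fun _ _ => Commute.all _ _)
  have hΦ : ∀ c : Box M d → C, Φ (∑ b : Box M d, (AddMonoidAlgebra.single b.1 (1 : K) : AddMonoidAlgebra K (pos M))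
      ⊗ₜ[MvPolynomial J K] c b) = ∑ b : Box M d, c b • τ (Multiplicative.ofAdd b.1) := by
    intro c
    rw [map_sum]
    refine Finset.sum_congr rfl fun b _ => ?_
    rw [Algebra.TensorProduct.lift_tmul, Algebra.smul_def, mul_comm]
    congr 1
    change lift K τ _ = _
    rw [lift_single', map_one, one_mul]
  have hinj : Function.Injective Φ := by
    rw [injective_iff_map_eq_zero]
    intro z hz
    obtain ⟨c, rfl⟩ := exists_sum_box (K := K) hd hmem t z
    rw [hΦ] at hz
    have h3 := Fintype.linearIndependent_iff.mp hli c hz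
    simp [h3]
  have hsurj : Function.Surjective Φ := by
    intro s
    have hs : s ∈ Submodule.span C (Set.range (fun m : Box M d => τ (Multiplicative.ofAdd m.1))) := by
      rw [hspan]; trivial
    obtain ⟨c, hc⟩ := (Submodule.mem_span_range_iff_exists_fun C).mp hs
    exact ⟨_, (hΦ c).trans hc⟩
  have hfl : Module.Flat (MvPolynomial J K) C := hflat
  have h4 : Module.Flat (AddMonoidAlgebra K (pos M)) (AddMonoidAlgebra K (pos M) ⊗[MvPolynomial J K] C) :=
    inferInstance
  exact Module.Flat.of_linearEquiv (AlgEquiv.ofBijective Φ ⟨hinj, hsurj⟩).symm.toLinearEquiv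

end Flat

section Quot

variable {J : Type} [Fintype J] {M : AddSubgroup (J → ℤ)} {d : J → ℕ}
  (hd : ∀ j, 0 < d j) (hmem : ∀ j, ax j (d j : ℤ) ∈ M)
  {C S : Type u} [CommRing C] [CommRing S] [Algebra C S] (t : J → C) (τ : Multiplicative (pos M) →* S)
  (hτ : ∀ j, τ (Multiplicative.ofAdd (axd hmem j)) = algebraMap C S (t j))
  (hli : LinearIndependent C (fun m : Box M d => τ (Multiplicative.ofAdd m.1)))
  (hspan : Submodule.span C (Set.range (fun m : Box M d => τ (Multiplicative.ofAdd m.1))) = ⊤)

/-- the ideal of the origin -/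
def orig {J : Type} {M : AddSubgroup (J → ℤ)} {S : Type u} [CommRing S] (τ : Multiplicative (pos M) →* S) : Ideal S :=
  Ideal.span (Set.range fun m : {m : pos M // m ≠ 0} => τ (Multiplicative.ofAdd m.1))

theorem mem_orig {J : Type} {M : AddSubgroup (J → ℤ)} {S : Type u} [CommRing S] (τ : Multiplicative (pos M) →* S)
    (m : pos M) (hm : m ≠ 0) : τ (Multiplicative.ofAdd m) ∈ orig τ := Ideal.subset_span ⟨⟨m, hm⟩, rfl⟩

include hd in
omit [Fintype J] in
theorem axd_ne_zero (j : J) : axd hmem j ≠ 0 := by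
  intro h
  have h1 : (axd hmem j).1 j = (0 : pos M).1 j := by rw [h]
  change ax j (d j : ℤ) j = 0 at h1
  rw [ax_self] at h1
  have := hd j
  omega

omit [Fintype J] in
theorem add_ne_zero' (m m' : pos M) (hm : m ≠ 0) : m + m' ≠ 0 := by
  intro h
  apply hm
  apply Subtype.ext
  funext j
  have h1 : (m + m').1 j = (0 : pos M).1 j := by rw [h]
  change m.1 j + m'.1 j = 0 at h1
  have h2 := m.2.2 j
  have h3 := m'.2.2 j
  change m.1 j = 0
  omega

/-- the origin of the box -/
def box0 (hd : ∀ j, 0 < d j) : Box M d := ⟨0, fun j => by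
  change (0 : ℤ) < d j
  have := hd j
  omega⟩

include hd hτ in
/-- The coordinate at the origin of the ideal of the origin. -/
theorem coord_mem (b : Module.Basis (Box M d) C S) (hb : ∀ m, b m = τ (Multiplicative.ofAdd m.1))
    (x : S) (hx : x ∈ orig τ) : b.coord (box0 hd) x ∈ Ideal.span (Set.range t) := by
  classical
  have key1 : ∀ m : pos M, m ≠ 0 → b.coord (box0 hd) (τ (Multiplicative.ofAdd m)) ∈ Ideal.span (Set.range t) := by
    intro m hm
    obtain ⟨c, k, rfl⟩ := exists_box hmem hd m
    rw [ofAdd_add, map_mul, tau_dv hmem t τ hτ, mul_comm, ← Algebra.smul_def, map_smul, ← hb,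
      Module.Basis.coord_apply, Module.Basis.repr_self]
    by_cases hc : c = box0 hd
    · have hk : ∃ j, k j ≠ 0 := by
        by_contra h0
        push Not at h0
        apply hm
        rw [hc]
        apply Subtype.ext
        funext j
        change (0 : ℤ) + (dv hmem k).1 j = 0
        rw [dv_apply, h0]
        simp
      obtain ⟨j, hj⟩ := hk
      rw [hc, Finsupp.single_eq_same, smul_eq_mul, mul_one]
      have h5 : t j ∈ Ideal.span (Set.range t) := Ideal.subset_span ⟨j, rfl⟩
      exact Ideal.mem_of_dvd _ (Finset.dvd_prod_of_mem (fun j => t j ^ k j) (Finset.mem_univ j))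
        (Ideal.pow_mem_of_mem _ h5 _ (Nat.pos_of_ne_zero hj))
    · rw [Finsupp.single_eq_of_ne (Ne.symm hc), smul_zero]
      exact Ideal.zero_mem _
  have key2 : ∀ x ∈ orig τ, ∀ s : S, b.coord (box0 hd) (s * x) ∈ Ideal.span (Set.range t) := by
    intro x hx
    refine Submodule.span_induction (p := fun x _ => ∀ s : S, b.coord (box0 hd) (s * x) ∈ Ideal.span (Set.range t))
      ?_ ?_ ?_ ?_ hx
    · rintro _ ⟨m, rfl⟩ s
      have : Finite (Box M d) := finite_box
      let : Fintype (Box M d) := Fintype.ofFinite _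
      rw [← b.sum_repr s, Finset.sum_mul, map_sum]
      refine Ideal.sum_mem _ fun c _ => ?_
      rw [smul_mul_assoc, map_smul, hb, ← map_mul, ← ofAdd_add, add_comm]
      exact Ideal.mul_mem_left _ _ (key1 _ (add_ne_zero' _ _ m.2))
    · intro s
      rw [mul_zero, map_zero]; exact Ideal.zero_mem _
    · intro x y _ _ hx hy s
      rw [mul_add, map_add]; exact Ideal.add_mem _ (hx s) (hy s)
    · intro a x _ hx s
      rw [smul_eq_mul, ← mul_assoc]
      exact hx _
  simpa using key2 x hx 1

include hd hτ hli hspan in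
/-- `S / (origin) = C / (t)` -/
theorem quotEquiv : Nonempty ((C ⧸ Ideal.span (Set.range t)) ≃+* (S ⧸ orig τ)) := by
  classical
  let b : Module.Basis (Box M d) C S := Module.Basis.mk hli hspan.ge
  have hb : ∀ m, b m = τ (Multiplicative.ofAdd m.1) := fun m => Module.Basis.mk_apply _ _ m
  let φ : C →+* S ⧸ orig τ := (Ideal.Quotient.mk (orig τ)).comp (algebraMap C S)
  have hτ0 : τ (Multiplicative.ofAdd (box0 (M := M) hd).1) = 1 := map_one τ
  have hker : RingHom.ker φ = Ideal.span (Set.range t) := by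
    apply le_antisymm
    · intro c hc
      rw [RingHom.mem_ker] at hc
      have h1 : algebraMap C S c ∈ orig τ := Ideal.Quotient.eq_zero_iff_mem.mp hc
      have h2 := coord_mem hd hmem t τ hτ b hb _ h1
      rw [Algebra.algebraMap_eq_smul_one, ← hτ0, ← hb, map_smul, Module.Basis.coord_apply, Module.Basis.repr_self,
        Finsupp.single_eq_same, smul_eq_mul, mul_one] at h2
      exact h2
    · rw [Ideal.span_le]
      rintro _ ⟨j, rfl⟩
      change φ (t j) = 0
      refine Ideal.Quotient.eq_zero_iff_mem.mpr ?_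
      rw [← hτ]
      exact mem_orig τ _ (axd_ne_zero hd hmem j)
  have hsurj : Function.Surjective φ := by
    intro y
    obtain ⟨s, rfl⟩ := Ideal.Quotient.mk_surjective y
    have hs : s ∈ Submodule.span C (Set.range (fun m : Box M d => τ (Multiplicative.ofAdd m.1))) := by
      rw [hspan]; trivial
    refine Submodule.span_induction (p := fun s _ => ∃ c, φ c = Ideal.Quotient.mk (orig τ) s) ?_ ?_ ?_ ?_ hs
    · rintro _ ⟨m, rfl⟩
      by_cases hm : m.1 = 0
      · refine ⟨1, ?_⟩
        change φ 1 = Ideal.Quotient.mk (orig τ) (τ (Multiplicative.ofAdd m.1))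
        rw [hm, map_one]
        exact (congrArg (Ideal.Quotient.mk (orig τ)) (map_one τ)).symm
      · refine ⟨0, ?_⟩
        rw [map_zero]
        exact (Ideal.Quotient.eq_zero_iff_mem.mpr (mem_orig τ _ hm)).symm
    · exact ⟨0, by rw [map_zero, map_zero]⟩
    · rintro x y _ _ ⟨c, hc⟩ ⟨c', hc'⟩
      exact ⟨c + c', by rw [map_add, map_add, hc, hc']⟩
    · rintro a x _ ⟨c, hc⟩
      exact ⟨a * c, by rw [map_mul, hc, Algebra.smul_def, map_mul]; rfl⟩
  exact ⟨(Ideal.quotEquivOfEq hker.symm).trans (RingHom.quotientKerEquivOfSurjective hsurj)⟩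

end Quot

end K891.KumPush
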