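import Mathlib.RingTheory.Etale.Kaehler
import Mathlib.RingTheory.Kaehler.Polynomial
import Mathlib.RingTheory.Ideal.Cotangent
import Mathlib.RingTheory.LocalRing.ResidueField.Basic

/-!
# Étale coordinates through a point are part of a regular system of parameters
-/

set_option autoImplicit false

universe u

open IsLocalRing TensorProduct

namespace K891.Coord

/-- the partial derivatives of an étale chart -/
theorem exists_pderiv {K R : Type u} [Field K] [CommRing R] {n : ℕ} [Algebra (MvPolynomial (Fin n) K) R]
    [Algebra K R] [IsScalarTower K (MvPolynomial (Fin n) K) R]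
    [Algebra.FormallyEtale (MvPolynomial (Fin n) K) R] (i : Fin n) :
    ∃ δ : Derivation K R R, ∀ j : Fin n,
      δ (algebraMap (MvPolynomial (Fin n) K) R (MvPolynomial.X j)) = if j = i then 1 else 0 := by
  classical
  let P := MvPolynomial (Fin n) K
  let φ : (Ω[P⁄K]) →ₗ[P] P := (MvPolynomial.pderiv i : Derivation K P P).liftKaehlerDifferential
  let ψ : R ⊗[P] (Ω[P⁄K]) →ₗ[R] R :=
    (TensorProduct.AlgebraTensorModule.rid P R R).toLinearMap ∘ₗ (TensorProduct.AlgebraTensorModule.lTensor R R φ)
  let χ : (Ω[R⁄K]) →ₗ[R] R := ψ ∘ₗ (KaehlerDifferential.tensorKaehlerEquivOfFormallyEtale K P R).symm.toLinearMap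
  refine ⟨χ.compDer (KaehlerDifferential.D K R), fun j => ?_⟩
  change ψ ((KaehlerDifferential.tensorKaehlerEquivOfFormallyEtale K P R).symm
    (KaehlerDifferential.D K R (algebraMap P R (MvPolynomial.X j)))) = _
  rw [KaehlerDifferential.tensorKaehlerEquivOfFormallyEtale_symm_D_algebraMap]
  change (TensorProduct.AlgebraTensorModule.rid P R R) ((1 : R) ⊗ₜ[P] φ (KaehlerDifferential.D K P (MvPolynomial.X j))) = _
  rw [TensorProduct.AlgebraTensorModule.rid_tmul, Derivation.liftKaehlerDifferential_comp_D, MvPolynomial.pderiv_X,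
    Pi.single_apply]
  by_cases h : j = i
  · subst h; simp
  · rw [if_neg h, if_neg h, zero_smul]

/-- Étale coordinates vanishing at the closed point are linearly independent in the cotangent space. -/
theorem linearIndependent {K R : Type u} [Field K] [CommRing R] [IsLocalRing R] {n : ℕ}
    [Algebra (MvPolynomial (Fin n) K) R]
    [Algebra K R] [IsScalarTower K (MvPolynomial (Fin n) K) R]
    [Algebra.FormallyEtale (MvPolynomial (Fin n) K) R] {J : Type} (e : J → Fin n) (he : Function.Injective e)
    (hm : ∀ j, algebraMap (MvPolynomial (Fin n) K) R (MvPolynomial.X (e j)) ∈ maximalIdeal R) :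
    LinearIndependent (ResidueField R) (fun j => (maximalIdeal R).toCotangent ⟨_, hm j⟩) := by
  classical
  rw [linearIndependent_iff']
  intro s c hc i hi
  choose a ha using fun j => residue_surjective (c j)
  obtain ⟨δ, hδ⟩ := exists_pderiv (K := K) (R := R) (e i)
  have hδm : ∀ x ∈ maximalIdeal R ^ 2, δ x ∈ maximalIdeal R := by
    intro x hx
    rw [pow_two] at hx
    refine Submodule.mul_induction_on hx ?_ ?_
    · intro a ha b hb
      rw [Derivation.leibniz]
      exact add_mem (Ideal.mul_mem_right _ _ ha) (Ideal.mul_mem_right _ _ hb)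
    · intro x y hx hy
      rw [map_add]
      exact add_mem hx hy
  have h1 : ∑ j ∈ s, a j * algebraMap (MvPolynomial (Fin n) K) R (MvPolynomial.X (e j)) ∈ maximalIdeal R ^ 2 := by
    have h2 : (maximalIdeal R).toCotangent (∑ j ∈ s, a j • (⟨_, hm j⟩ : maximalIdeal R)) = 0 := by
      rw [map_sum, ← hc]
      refine Finset.sum_congr rfl fun j _ => ?_
      rw [map_smul, ← ha j]
      rfl
    rw [Ideal.toCotangent_eq_zero] at h2
    simpa using h2
  have h3 := hδm _ h1
  rw [map_sum] at h3
  simp only [Derivation.leibniz, hδ, smul_eq_mul] at h3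
  rw [Finset.sum_add_distrib] at h3
  have h4 : ∑ j ∈ s, a j * (if e j = e i then (1 : R) else 0) = a i := by
    rw [Finset.sum_eq_single i]
    · simp
    · intro j _ hj
      rw [if_neg (fun h => hj (he h)), mul_zero]
    · intro h; exact absurd hi h
  rw [h4] at h3
  have h5 : a i ∈ maximalIdeal R := by
    refine (Ideal.add_mem_iff_left _ ?_).mp h3
    exact Ideal.sum_mem _ fun j _ => Ideal.mul_mem_right _ _ (hm j)
  rw [← ha i]
  exact (residue_eq_zero_iff _).mpr h5

end K891.Coord
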