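import Groth.Agent.Resolve.K84.Iface
import Groth.Agent.CalgC.IndEtale
import Mathlib.RingTheory.RegularLocalRing.Defs
import Mathlib.RingTheory.RingHom.Etale
import Mathlib.RingTheory.RingHom.Flat

/-!
# Node C of the resolution project: the cut between (5a) and (5b)

`SHChart K B t q`: the strictly henselian Kummer chart of `(Spec B, (t i))` at the prime `q`.
(5a) produces it (helper891), (5b) descends it to a Zariski neighbourhood (helper88).
-/

universe u

open K84.Iface

namespace K891.Cut

open IsLocalRing

/-- the ring homomorphism `K[Q] → S` of a multiplicative map `Q → S` -/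
noncomputable def lift (K : Type u) [Field K] {Q S : Type*} [AddMonoid Q] [CommRing S] [Algebra K S]
    (τ : Multiplicative Q →* S) : AddMonoidAlgebra K Q →+* S :=
  (AddMonoidAlgebra.lift K S Q τ).toRingHom

/-- A strictly henselian Kummer chart. -/
structure SHChart (K B : Type u) [Field K] [CommRing B] [Algebra K B] {r : ℕ} (t : Fin r → B)
    (q : Ideal B) where
  I : Finset (Fin r)
  mem_I : ∀ i, i ∈ I ↔ t i ∈ q
  M : AddSubgroup (I → ℤ)
  d : I → ℕ
  d_pos : ∀ i, 0 < d i
  d_mem : ∀ i, ax i (d i : ℤ) ∈ M
  onto : ∀ i, ∃ m ∈ M, m i = 1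
  S : Type u
  [commRing : CommRing S]
  [algebraB : Algebra B S]
  [algebraK : Algebra K S]
  [tower : IsScalarTower K B S]
  [isLocalRing : IsLocalRing S]
  [isNoetherianRing : IsNoetherianRing S]
  /-- the center of `S` -/
  comap_maximalIdeal : (maximalIdeal S).comap (algebraMap B S) = q
  /-- `S` is a filtered colimit of etale `B`-algebras -/
  isIndEtale : Groth.Agent.CalgC.IndEtale.IsIndEtale B S
  /-- the monomials -/
  τ : Multiplicative (pos M) →* S
  τ_ax : ∀ i : I, τ (Multiplicative.ofAdd ⟨ax i (d i : ℤ), d_mem i, ax_nonneg i (by positivity)⟩) =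
    algebraMap B S (t i)
  /-- `S` is flat over `K[Q]` -/
  flat : (lift K τ).Flat
  /-- the fibre over the origin is regular -/
  regular : IsRegularLocalRing (S ⧸ Ideal.span (Set.range fun m : {m : pos M // m ≠ 0} =>
    τ (Multiplicative.ofAdd m.1)))

/-- **(5a)** (helper891). `A` = functions on an affine open of `P` with an etale chart `A ← K[t_1 … t_n]`, the `D i` cut
out by the coordinates `t (e i)`; `B` = functions on its inverse image in `X`. -/
def FiveA (K : Type u) [Field K] : Prop :=
  ∀ (A B : Type u) [CommRing A] [IsDomain A] [CommRing B] [IsDomain B] [IsIntegrallyClosed B]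
    [Algebra K A] [Algebra A B] [Algebra K B] [IsScalarTower K A B] [Module.Finite A B]
    [FaithfulSMul A B] (n r : ℕ) [Algebra (MvPolynomial (Fin n) K) A]
    [IsScalarTower K (MvPolynomial (Fin n) K) A] [Algebra.Etale (MvPolynomial (Fin n) K) A]
    (e : Fin r → Fin n), Function.Injective e →
    (Localization.awayMap (algebraMap A B)
        (∏ i, algebraMap (MvPolynomial (Fin n) K) A (MvPolynomial.X (e i)))).Etale →
    ∀ (q : Ideal B) [q.IsPrime],
      Nonempty (SHChart K B (fun i => algebraMap A B
        (algebraMap (MvPolynomial (Fin n) K) A (MvPolynomial.X (e i)))) q)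

/-- **(5b)** (helper88). -/
def FiveB (K : Type u) [Field K] : Prop :=
  ∀ (B : Type u) [CommRing B] [IsDomain B] [IsIntegrallyClosed B] [Algebra K B] [Algebra.FiniteType K B]
    (r : ℕ) (t : Fin r → B) (q : Ideal B) [q.IsPrime] (H : SHChart K B t q),
    ∃ (f : B) (_ : f ∉ q) (ψ : AddMonoidAlgebra K (pos H.M) →+* Localization.Away f),
      (∀ c : K, ψ (AddMonoidAlgebra.single 0 c) = algebraMap K (Localization.Away f) c) ∧
      ψ.Smooth ∧
      (∀ i : H.I, Ideal.span {algebraMap B (Localization.Away f) (t i)} =
        Ideal.span {ψ (AddMonoidAlgebra.single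
          ⟨ax i (H.d i : ℤ), H.d_mem i, ax_nonneg i (by positivity)⟩ 1)}) ∧
      (∀ j ∉ H.I, IsUnit (algebraMap B (Localization.Away f) (t j)))

end K891.Cut
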