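import Groth.Agent.Resolve.K891.Hens
import Groth.Agent.Brnch.K580.HullBij
import Groth.Agent.ParaF.K588.IndEpi
import Groth.Agent.FlatA.TensorPrime
import Groth.Agent.S0427
import Mathlib.RingTheory.Etale.Basic

/-!
# The local factor of `B ⊗ C` at a prime

`B` normal domain finite over the domain `A`, `C` henselian, ind-étale over `A`, `𝔫` a maximal ideal of `B ⊗ C`.
`S = (B ⊗ C)_𝔫` is a normal domain, finite and torsion-free over `C`, ind-étale over `B`, étale over `C` where `B` is étale
over `A`.
-/

set_option autoImplicit false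

universe u

open IsLocalRing TensorProduct Groth.Agent.CalgC.IndEtale

namespace K891.Factor

section

variable {A B C : Type u} [CommRing A] [CommRing B] [CommRing C] [Algebra A B] [Algebra A C]

/-- a localization at a prime whose kernel quotient is local is a quotient -/
theorem surjective_of_isLocalRing {D : Type u} [CommRing D] (n : Ideal D) [n.IsPrime]
    (L : Type u) [CommRing L] [Algebra D L] [IsLocalization.AtPrime L n]
    (hloc : IsLocalRing (D ⧸ RingHom.ker (algebraMap D L))) (hle : RingHom.ker (algebraMap D L) ≤ n)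
    (hmax : n.IsMaximal) :
    Function.Surjective (algebraMap D L) := by
  intro y
  obtain ⟨x, s, rfl⟩ := IsLocalization.exists_mk'_eq n.primeCompl y
  have hs : IsUnit (Ideal.Quotient.mk (RingHom.ker (algebraMap D L)) s.1) := by
    by_contra hns
    have h1 : Ideal.Quotient.mk (RingHom.ker (algebraMap D L)) s.1 ∈ maximalIdeal _ := hns
    have h2 : (n.map (Ideal.Quotient.mk (RingHom.ker (algebraMap D L)))).IsMaximal := by
      refine Ideal.IsMaximal.map_of_surjective_of_ker_le Ideal.Quotient.mk_surjective ?_
      rwa [Ideal.mk_ker]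
    rw [← IsLocalRing.eq_maximalIdeal h2] at h1
    rw [← Ideal.mem_comap, Ideal.comap_map_of_surjective _ Ideal.Quotient.mk_surjective, ← RingHom.ker_eq_comap_bot,
      Ideal.mk_ker, sup_eq_left.mpr hle] at h1
    exact s.2 h1
  obtain ⟨v, hv⟩ := hs.exists_right_inv
  obtain ⟨u, rfl⟩ := Ideal.Quotient.mk_surjective v
  rw [← map_mul, ← map_one (Ideal.Quotient.mk (RingHom.ker (algebraMap D L))), Ideal.Quotient.mk_eq_mk_iff_sub_mem,
    RingHom.mem_ker, map_sub, map_one, sub_eq_zero, map_mul] at hv
  refine ⟨x * u, ?_⟩
  rw [eq_comm, IsLocalization.mk'_eq_iff_eq_mul, map_mul, mul_assoc, mul_comm (algebraMap D L u), hv, mul_one]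

end

section Etale

/-- localization maps are epimorphisms -/
theorem epi_of_isLocalization {A W : Type u} [CommRing A] [CommRing W] [Algebra A W] (M : Submonoid A)
    [IsLocalization M W] (T : Type u) [CommRing T] (f g : W →+* T)
    (h : f.comp (algebraMap A W) = g.comp (algebraMap A W)) : f = g :=
  IsLocalization.ringHom_ext M h

/-- a finitely presented ind-étale algebra is étale -/
theorem etale_of_isIndEtale {A T : Type u} [CommRing A] [CommRing T] [Algebra A T]
    [Algebra.FinitePresentation A T] (h : IsIndEtale A T) : Algebra.Etale A T := by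
  obtain ⟨E, _, _, hE, ψ, χ, hχ⟩ := h T (AlgHom.id A T)
  have hχs : Function.Surjective χ := fun t => ⟨ψ t, DFunLike.congr_fun hχ t⟩
  refine { formallyEtale := ?_, finitePresentation := inferInstance }
  rw [Algebra.FormallyEtale.iff_comp_bijective]
  intro R _ _ I hI
  refine ⟨?_, ?_⟩
  · intro f g hfg
    have h1 : f.comp χ = g.comp χ := by
      refine (Algebra.FormallyEtale.comp_bijective (R := A) (A := E) I hI).1 ?_
      rw [← AlgHom.comp_assoc, ← AlgHom.comp_assoc]
      exact congrArg (fun k : T →ₐ[A] R ⧸ I => k.comp χ) hfg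
    ext t
    obtain ⟨x, rfl⟩ := hχs t
    exact DFunLike.congr_fun h1 x
  · intro f
    obtain ⟨k, hk⟩ := (Algebra.FormallyEtale.comp_bijective (R := A) (A := E) I hI).2 (f.comp χ)
    refine ⟨k.comp ψ, ?_⟩
    have hk' : (Ideal.Quotient.mkₐ A I).comp k = f.comp χ := hk
    rw [← AlgHom.comp_assoc, hk', AlgHom.comp_assoc, hχ, AlgHom.comp_id]

/-- `W → T` is étale. -/
theorem etale_of_tower {A B C W T : Type u} [CommRing A] [CommRing B] [CommRing C] [CommRing W] [CommRing T]
    [Algebra A B] [Algebra A C] [Algebra C W] [Algebra C T] [Algebra W T] [IsScalarTower C W T]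
    [Algebra B T] [Algebra A T] [IsScalarTower A B T] [IsScalarTower A C T] (hAC : IsIndEtale A C)
    (hBT : IsIndEtale B T) (w : C) [IsLocalization.Away w W] (g : A)
    (het : Algebra.Etale A (Localization.Away (algebraMap A B g))) (hg : IsUnit (algebraMap A T g))
    [Module.Finite W T] [IsNoetherianRing W] : Algebra.Etale W T := by
  let Bg := Localization.Away (algebraMap A B g)
  let φ : Bg →+* T := IsLocalization.Away.lift (algebraMap A B g) (g := algebraMap B T) (by
    rwa [← IsScalarTower.algebraMap_apply])
  let : Algebra Bg T := φ.toAlgebra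
  have t1 : IsScalarTower B Bg T := IsScalarTower.of_algebraMap_eq fun x =>
    (IsLocalization.Away.lift_eq (algebraMap A B g) _ x).symm
  have t2 : IsScalarTower A Bg T := IsScalarTower.of_algebraMap_eq fun x => by
    rw [IsScalarTower.algebraMap_apply A B Bg, ← IsScalarTower.algebraMap_apply B Bg T,
      ← IsScalarTower.algebraMap_apply A B T]
  have h1 : IsIndEtale Bg T := K588.IndEpi.isInd_of_epi isGood_etale
    (epi_of_isLocalization (Submonoid.powers (algebraMap A B g))) hBT
  have h2 : IsIndEtale A T := IsInd.comp isGood_etale (IsInd.of_self het) h1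
  have h3 : IsIndEtale C T := IsInd.cancel isGood_etale hAC h2
  have h4 : IsIndEtale W T := K588.IndEpi.isInd_of_epi isGood_etale
    (epi_of_isLocalization (Submonoid.powers w)) h3
  have h5 : Algebra.FinitePresentation W T := Algebra.FinitePresentation.of_finiteType.mp inferInstance
  exact etale_of_isIndEtale h4

end Etale

section Main

/-- flat algebras over domains -/
theorem injective_of_flat {R S : Type u} [CommRing R] [IsDomain R] [CommRing S] [Nontrivial S] [Algebra R S]
    (h : Module.Flat R S) : Function.Injective (algebraMap R S) := by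
  rw [injective_iff_map_eq_zero]
  intro a ha
  by_contra h0
  have h1 : IsSMulRegular R a := fun x y hxy => mul_left_cancel₀ h0 hxy
  have h2 : IsSMulRegular S (algebraMap R S a) := h1.of_flat
  have h3 : (algebraMap R S a) • (1 : S) = (algebraMap R S a) • (0 : S) := by
    rw [ha, zero_smul, zero_smul]
  exact one_ne_zero (h2 h3)

/-- **The local factor.** -/
theorem exists_factor (A B C : Type u) [CommRing A] [IsDomain A] [CommRing B] [IsDomain B]
    [IsIntegrallyClosed B] [CommRing C] [IsDomain C] [IsNoetherianRing C] [HenselianLocalRing C]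
    [Algebra A B] [Algebra A C] [Module.Finite A B] [FaithfulSMul A B] (hC : IsIndEtale A C)
    (q : Ideal B) [q.IsPrime] (hq : (maximalIdeal C).comap (algebraMap A C) = q.comap (algebraMap A B)) :
    ∃ (S : Type u) (_ : CommRing S) (_ : Algebra B S) (_ : Algebra C S) (_ : IsLocalRing S),
      (algebraMap B S).comp (algebraMap A B) = (algebraMap C S).comp (algebraMap A C) ∧
      IsDomain S ∧ IsIntegrallyClosed S ∧ Module.Finite C S ∧ FaithfulSMul C S ∧
      (maximalIdeal S).comap (algebraMap B S) = q ∧ IsIndEtale B S := by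
  let D := B ⊗[A] C
  let : Algebra C D := Algebra.TensorProduct.rightAlgebra
  have hACD : IsScalarTower A C D := Algebra.TensorProduct.right_isScalarTower
  obtain ⟨N, hN1, hN2⟩ := Groth.Agent.FlatA.TensorPrime.exists_prime (R := A) (A := B) (B := C)
    ⟨q, inferInstance⟩ (closedPoint C) (PrimeSpectrum.ext hq.symm)
  let n : Ideal D := N.asIdeal
  have hn : n.IsPrime := N.2
  have hnB : n.comap (algebraMap B D) = q := congrArg PrimeSpectrum.asIdeal hN1
  have hnC : n.comap (algebraMap C D) = maximalIdeal C := congrArg PrimeSpectrum.asIdeal hN2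
  have hint : Algebra.IsIntegral C D := K580.HullBij.isIntegral_tensor B
  have hnmax : n.IsMaximal := by
    refine Ideal.isMaximal_of_isIntegral_of_isMaximal_comap n (R := C) ?_
    rw [hnC]
    infer_instance
  let S := Localization.AtPrime n
  have hBnorm : ∀ (q : Ideal B) [q.IsPrime], Groth.Agent.Desc.NormalSmooth.NormalAt B q := by
    intro q' _
    refine ⟨inferInstance, ?_⟩
    exact isIntegrallyClosed_of_isLocalization (Localization.AtPrime q') q'.primeCompl
      (Ideal.primeCompl_le_nonZeroDivisors q')
  obtain ⟨hSdom, hSnorm⟩ := K580.HullBij.normalAt_tensor hBnorm hC n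
  have h1 : IsIndEtale B D := IsInd.baseChange isGood_etale ((isIndEtale_iff A C).1 hC) B
  have h2 : IsIndEtale D S := isIndEtale_of_isLocalization n.primeCompl _
  have h3 : IsIndEtale B S :=
    IsInd.comp isGood_etale ((isIndEtale_iff _ _).1 h1) ((isIndEtale_iff _ _).1 h2)
  have hSD : (maximalIdeal S).comap (algebraMap D S) = n := Localization.AtPrime.under_maximalIdeal (I := n)
  have hkerle : RingHom.ker (algebraMap D S) ≤ n := (Ideal.comap_mono bot_le).trans_eq hSD
  have hfinD : Module.Finite C D := by
    rw [← RingHom.finite_algebraMap]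
    have hf : (algebraMap C D) = ((Algebra.TensorProduct.comm A C B : C ⊗[A] B ≃ₐ[A] B ⊗[A] C) :
        C ⊗[A] B →+* B ⊗[A] C).comp (algebraMap C (C ⊗[A] B)) := by
      ext c
      rfl
    rw [hf]
    refine RingHom.Finite.comp ?_ (RingHom.finite_algebraMap.mpr inferInstance)
    exact RingHom.Finite.of_surjective _ (Algebra.TensorProduct.comm A C B).surjective
  have hkerdom : IsDomain (D ⧸ RingHom.ker (algebraMap D S)) :=
    (Ideal.Quotient.isDomain_iff_prime _).mpr (RingHom.ker_isPrime _)
  have hloc : IsLocalRing (D ⧸ RingHom.ker (algebraMap D S)) := by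
    have : Module.Finite C (D ⧸ RingHom.ker (algebraMap D S)) := Module.Finite.trans D _
    exact Groth.Agent.S0427.isLocalRing_of_finite C _
  have hsurj := surjective_of_isLocalRing n S hloc hkerle hnmax
  have hCDS : IsScalarTower C D S := inferInstance
  have hBS : ∀ b, algebraMap B S b = algebraMap D S (algebraMap B D b) := fun b =>
    IsScalarTower.algebraMap_apply B D S b
  have hfinS : Module.Finite C S := Module.Finite.of_surjective (IsScalarTower.toAlgHom C D S).toLinearMap hsurj
  have hcomm : (algebraMap B S).comp (algebraMap A B) = (algebraMap C S).comp (algebraMap A C) := by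
    ext a
    rw [RingHom.comp_apply, RingHom.comp_apply, hBS, IsScalarTower.algebraMap_apply C D S,
      ← IsScalarTower.algebraMap_apply A B D, ← IsScalarTower.algebraMap_apply A C D]
  have hfaith : FaithfulSMul C S := by
    rw [faithfulSMul_iff_algebraMap_injective, RingHom.injective_iff_ker_eq_bot]
    have hp : (RingHom.ker (algebraMap C S)).IsPrime := RingHom.ker_isPrime _
    refine (K588.IndEpi.eq_of_le hC ⊥ (RingHom.ker (algebraMap C S)) bot_le ?_).symm
    have e1 : (⊥ : Ideal C).comap (algebraMap A C) = ⊥ := by
      rw [← RingHom.ker_eq_comap_bot, ← RingHom.injective_iff_ker_eq_bot]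
      exact injective_of_flat (K580.HullBij.flat hC)
    have e2 : (RingHom.ker (algebraMap C S)).comap (algebraMap A C) = ⊥ := by
      rw [RingHom.comap_ker, ← hcomm, ← RingHom.injective_iff_ker_eq_bot]
      exact (injective_of_flat (K580.HullBij.flat h3)).comp (FaithfulSMul.algebraMap_injective A B)
    rw [e1, e2]
  refine ⟨S, inferInstance, inferInstance, inferInstance, inferInstance, hcomm, hSdom, hSnorm, hfinS, hfaith, ?_, h3⟩
  rw [IsScalarTower.algebraMap_eq B D S, ← Ideal.comap_comap, hSD, hnB]

end Main

end K891.Factor
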