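import Groth.Agent.Resolve.K891.Coord
import Groth.Agent.CalgB.RegQuot
import Groth.Agent.Sga1.StrictReg
import Groth.Agent.Ega4A.RegEtale
import Groth.Agent.Sga1.AbhMixCore
import Groth.Agent.Hensel.Lazard
import Groth.Agent.CalgC.IndEtale
import Mathlib.RingTheory.RingHom.Flat

/-!
# Strict henselizations of étale algebras over polynomial rings
-/

set_option autoImplicit false

universe u

open IsLocalRing TensorProduct

namespace K891.Hens

/-- `K[x_j, j ∈ J] → K[x_s, s ∈ σ]` is flat. -/
theorem flat_rename (K : Type u) [Field K] {J σ : Type} (e : J → σ) (he : Function.Injective e) :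
    (MvPolynomial.rename e : MvPolynomial J K →ₐ[K] MvPolynomial σ K).toRingHom.Flat := by
  classical
  let T : Set σ := (Set.range e)ᶜ
  let E : σ ≃ T ⊕ J := ((Equiv.Set.sumCompl (Set.range e)).symm.trans
    (Equiv.sumCongr (Equiv.ofInjective e he).symm (Equiv.refl _))).trans (Equiv.sumComm _ _)
  have hE : ∀ j, E (e j) = Sum.inr j := by
    intro j
    simp only [E, Equiv.trans_apply]
    rw [Equiv.Set.sumCompl_symm_apply_of_mem (Set.mem_range_self j)]
    simp
  let θ : MvPolynomial T (MvPolynomial J K) ≃+* MvPolynomial σ K :=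
    ((MvPolynomial.sumAlgEquiv K T J).symm.trans (MvPolynomial.renameEquiv K E.symm)).toRingEquiv
  have hθ : (MvPolynomial.rename e : MvPolynomial J K →ₐ[K] MvPolynomial σ K).toRingHom =
      (θ : MvPolynomial T (MvPolynomial J K) →+* MvPolynomial σ K).comp MvPolynomial.C := by
    refine MvPolynomial.ringHom_ext (fun a => ?_) (fun j => ?_)
    · change MvPolynomial.rename e (MvPolynomial.C a) =
        MvPolynomial.rename E.symm ((MvPolynomial.sumAlgEquiv K T J).symm (MvPolynomial.C (MvPolynomial.C a)))
      rw [MvPolynomial.rename_C]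
      have : (MvPolynomial.sumAlgEquiv K T J).symm (MvPolynomial.C (MvPolynomial.C a)) = MvPolynomial.C a :=
        MvPolynomial.sumRingEquiv_symm_C_C K T J a
      rw [this, MvPolynomial.rename_C]
    · change MvPolynomial.rename e (MvPolynomial.X j) =
        MvPolynomial.rename E.symm ((MvPolynomial.sumAlgEquiv K T J).symm (MvPolynomial.C (MvPolynomial.X j)))
      rw [MvPolynomial.rename_X]
      have : (MvPolynomial.sumAlgEquiv K T J).symm (MvPolynomial.C (MvPolynomial.X j)) =
          MvPolynomial.X (Sum.inr j) := MvPolynomial.sumRingEquiv_symm_C_X K T J j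
      rw [this, MvPolynomial.rename_X, ← hE, E.symm_apply_apply]
  rw [hθ]
  refine RingHom.Flat.comp ?_ (RingHom.Flat.of_bijective θ.bijective)
  have h : (algebraMap (MvPolynomial J K) (MvPolynomial T (MvPolynomial J K))).Flat :=
    RingHom.flat_algebraMap_iff.mpr inferInstance
  exact h

/-- regular quotient by part of a regular system of parameters -/
theorem isRegular_quotient {C : Type u} [CommRing C] [IsRegularLocalRing C] {J : Type} [Finite J] (f : J → C)
    (hm : ∀ j, f j ∈ maximalIdeal C)
    (hf : LinearIndependent (ResidueField C) (fun j => (maximalIdeal C).toCotangent ⟨f j, hm j⟩)) :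
    IsRegularLocalRing (C ⧸ Ideal.span (Set.range f)) := by
  classical
  have := Fintype.ofFinite J
  refine (Groth.Agent.CalgB.RegQuot.isRegularLocalRing_quotient f hm ?_).1
  intro c hc j
  rw [finsum_eq_sum_of_fintype] at hc
  rw [Fintype.linearIndependent_iff] at hf
  rw [← residue_eq_zero_iff]
  refine hf (fun j => residue C (c j)) ?_ j
  have h1 : (maximalIdeal C).toCotangent (∑ j, c j • (⟨f j, hm j⟩ : maximalIdeal C)) = 0 := by
    rw [Ideal.toCotangent_eq_zero]
    simpa using hc
  rw [map_sum] at h1
  rw [← h1]
  refine Finset.sum_congr rfl fun j _ => ?_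
  rw [map_smul]
  rfl

/-- The strict henselization of an étale algebra over a polynomial ring at a prime. -/
theorem exists_sh {K : Type u} [Field K] [CharZero K] {n : ℕ} (A : Type u) [CommRing A] [Algebra K A]
    [Algebra (MvPolynomial (Fin n) K) A] [IsScalarTower K (MvPolynomial (Fin n) K) A]
    [Algebra.Etale (MvPolynomial (Fin n) K) A] (p : Ideal A) [p.IsPrime] :
    ∃ (C : Type u) (_ : CommRing C) (_ : IsRegularLocalRing C) (_ : Algebra A C),
      HenselianLocalRing C ∧ IsSepClosed (ResidueField C) ∧ CharZero (ResidueField C) ∧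
      (maximalIdeal C).comap (algebraMap A C) = p ∧ Groth.Agent.CalgC.IndEtale.IsIndEtale A C ∧
      ∀ (J : Type) [Fintype J] (e : J → Fin n), Function.Injective e →
      ∀ (hm : ∀ j, algebraMap A C (algebraMap (MvPolynomial (Fin n) K) A (MvPolynomial.X (e j))) ∈ maximalIdeal C),
        LinearIndependent (ResidueField C) (fun j => (maximalIdeal C).toCotangent ⟨_, hm j⟩) := by
  let P := MvPolynomial (Fin n) K
  let R := Localization.AtPrime p
  have hAreg : IsRegularRing A := Groth.Agent.Ega4A.RegEtale.isRegularRing_of_etale P A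
  have hRreg : IsRegularLocalRing R := (isRegularRing_iff.1 hAreg) p
  obtain ⟨C, i1, i2, i3, i4, hC, -⟩ := Groth.Agent.Hensel.Exist.exists_isStrictHenselization R
  have h1 := Groth.Agent.S0538.result R C
  have h2 := Groth.Agent.S0539.result R C
  have h3 : IsNoetherianRing C := (Groth.Agent.S0540.result R C).1 inferInstance
  have h4 := Groth.Agent.S0541.result R C
  have h5 : IsRegularLocalRing C := (Groth.Agent.S2743.result R C).2 inferInstance
  have hsep := hC.isSepClosure
  have hlaz : Groth.Agent.CalgC.IndEtale.IsIndEtale R C :=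
    Groth.Agent.Hensel.Lazard.laz_of_isStrictHenselization R C
  let _ : Algebra A C := ((algebraMap R C).comp (algebraMap A R)).toAlgebra
  have : IsScalarTower A R C := IsScalarTower.of_algebraMap_eq fun x => rfl
  have hloc : Groth.Agent.CalgC.IndEtale.IsIndEtale A R :=
    Groth.Agent.CalgC.IndEtale.isIndEtale_of_isLocalization p.primeCompl R
  have hAC : Groth.Agent.CalgC.IndEtale.IsIndEtale A C :=
    Groth.Agent.CalgC.IndEtale.IsInd.comp Groth.Agent.CalgC.IndEtale.isGood_etale hloc hlaz
  refine ⟨C, i1, h5, inferInstance, hC.henselian, hsep.sep_closed, ?_, ?_, hAC, ?_⟩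
  · have hφ : K →+* ResidueField C :=
      (residue C).comp ((algebraMap A C).comp (algebraMap K A))
    exact charZero_of_injective_ringHom hφ.injective
  · rw [IsScalarTower.algebraMap_eq A R C, ← Ideal.comap_comap]
    rw [IsLocalRing.maximalIdeal_comap]
    exact Localization.AtPrime.under_maximalIdeal (I := p)
  · intro J _ e he hm
    have t1 : IsScalarTower P A R := inferInstance
    have t2 : IsScalarTower K P R := inferInstance
    have e1 : Algebra.FormallyEtale A R := Algebra.FormallyEtale.of_isLocalization (M := p.primeCompl)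
    have e2 : Algebra.FormallyEtale P R := Algebra.FormallyEtale.comp P A R
    have hmR : ∀ j, algebraMap P R (MvPolynomial.X (e j)) ∈ maximalIdeal R := by
      intro j
      have h6 := hm j
      rw [IsScalarTower.algebraMap_apply A R C] at h6
      rw [← IsLocalRing.maximalIdeal_comap (algebraMap R C)]
      exact Ideal.mem_comap.mpr h6
    have hR := Coord.linearIndependent (K := K) (R := R) e he hmR
    let ε : Fin (Fintype.card J) ≃ J := (Fintype.equivFin J).symm
    have h7 := Groth.Agent.Sga1.StrictReg.linearIndependent_map h1 h4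
      (fun i => algebraMap P R (MvPolynomial.X (e (ε i)))) (fun i => hmR (ε i)) (hR.comp ε ε.injective)
      (fun i => hm (ε i))
    exact (linearIndependent_equiv ε).mp h7

end K891.Hens
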