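import Groth.Agent.Resolve.K891.KumSub
import Groth.Agent.SGA1.K151.KumDom
import Groth.Agent.Pi1.H382.Tame0
import Groth.Agent.Sga7.H510.KumAlg

/-!
# Abhyankar's lemma over a strictly henselian regular local ring of residue characteristic zero

A finite normal domain `S` over `C`, étale outside `∏ t_j = 0`, is `⊕ C t^l` over the box of a lattice.
-/

set_option autoImplicit false

universe u

open IsLocalRing K84.Iface Groth.Agent.Sga1

namespace K891.SH

open K891.KumSub

/-- ring form of "everything is tame in residue characteristic zero" -/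
theorem isTameAlong (A : Type u) [CommRing A] [IsLocalRing A] [IsDomain A] [IsNoetherianRing A]
    [CharZero (ResidueField A)] {r : ℕ} (f : Fin r → A) [∀ i, (Ideal.span {f i}).IsPrime]
    (hf0 : ∀ i, f i ≠ 0) (B : Type u) [CommRing B] [Algebra A B] [Module.Finite A B] :
    SGA1.IsTameAlong f (algebraMap A B) := by
  intro i q hqp hq
  have hdvr := K151.KumDom.isDVR_atPrime (f i) (hf0 i)
  have halg : Algebra.IsAlgebraic A q.ResidueField :=
    Groth.Agent.Pi1.H382.Tame0.isAlgebraic_residueField A A B q hq
  have hchar : CharZero (ResidueField (Localization.AtPrime (Ideal.span {f i}))) :=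
    Groth.Agent.Pi1.H382.Tame0.charZero_of_residue A (algebraMap A _)
  have hg : ∀ a, SGA1.genericResidueMap (algebraMap A B) (Ideal.span {f i}) q hq
      (algebraMap A _ a) = algebraMap A q.ResidueField a := by
    intro a
    exact IsLocalization.lift_eq _ a
  have hRinj :
      Function.Injective (algebraMap A (Localization.AtPrime (Ideal.span {f i}))) :=
    IsLocalization.injective _ (Ideal.primeCompl_le_nonZeroDivisors (Ideal.span {f i}))
  have hinj : Function.Injective (algebraMap A q.ResidueField) := by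
    rw [injective_iff_map_eq_zero]
    intro a ha
    have ha' : algebraMap B q.ResidueField (algebraMap A B a) = 0 := ha
    have h5 : algebraMap A B a ∈ q := by
      rw [← Ideal.ker_algebraMap_residueField q, RingHom.mem_ker]
      exact ha'
    have h6 : a ∈ q.comap (algebraMap A B) := h5
    rw [hq] at h6
    exact h6
  refine Groth.Agent.Pi1.H382.Tame0.isTamelyRamified _ _ ?_ ?_
  · rw [injective_iff_map_eq_zero]
    intro x hx
    obtain ⟨a, s, rfl⟩ := IsLocalization.exists_mk'_eq (Ideal.span {f i}).primeCompl x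
    have h1 : SGA1.genericResidueMap (algebraMap A B) (Ideal.span {f i}) q hq
        (algebraMap A _ a) = 0 := by
      rw [← IsLocalization.mk'_spec (Localization.AtPrime (Ideal.span {f i})) a s, map_mul, hx,
        zero_mul]
    rw [hg] at h1
    rw [IsLocalization.mk'_eq_zero_iff]
    exact ⟨1, by rw [(injective_iff_map_eq_zero _).mp hinj a h1, mul_zero]⟩
  · intro x
    obtain ⟨P, hP0, hP⟩ := halg.isAlgebraic x
    refine ⟨P.map (algebraMap A _), (Polynomial.map_ne_zero_iff hRinj).mpr hP0, ?_⟩
    rw [Polynomial.eval₂_map]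
    have : (SGA1.genericResidueMap (algebraMap A B) (Ideal.span {f i}) q hq).comp
        (algebraMap A (Localization.AtPrime (Ideal.span {f i}))) = algebraMap A q.ResidueField :=
      RingHom.ext hg
    rw [Polynomial.aeval_def] at hP
    rw [← hP]
    exact congrArg (fun g => P.eval₂ g x) this

/-- **Abhyankar's lemma**, strictly henselian form. -/
theorem main (C : Type u) [CommRing C] [IsRegularLocalRing C] [IsDomain C] [HenselianLocalRing C]
    [IsSepClosed (ResidueField C)] [CharZero (ResidueField C)] {J : Type} [Fintype J] (t : J → C)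
    (ht : ∀ j, t j ∈ maximalIdeal C)
    (hlin : LinearIndependent (ResidueField C) (fun j => (maximalIdeal C).toCotangent ⟨t j, ht j⟩))
    (hprime : ∀ j, (Ideal.span {t j}).IsPrime)
    (S : Type u) [CommRing S] [IsDomain S] [IsIntegrallyClosed S] [Algebra C S] [Module.Finite C S]
    [Module.IsTorsionFree C S]
    (het : Algebra.Etale (Localization.Away (∏ j, t j)) (TensorProduct C (Localization.Away (∏ j, t j)) S)) :
    ∃ (M : AddSubgroup (J → ℤ)) (d : J → ℕ) (_ : ∀ j, 0 < d j)
    (hmem : ∀ j, ax j (d j : ℤ) ∈ M) (_ : ∀ j, ∃ m ∈ M, m j = 1) (τ : Multiplicative (pos M) →* S),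
    (∀ j, τ (Multiplicative.ofAdd ⟨ax j (d j : ℤ), hmem j, ax_nonneg j (by positivity)⟩) =
      algebraMap C S (t j)) ∧
    LinearIndependent C (fun m : Box M d => τ (Multiplicative.ofAdd m.1)) ∧
    Submodule.span C (Set.range (fun m : Box M d => τ (Multiplicative.ofAdd m.1))) = ⊤ := by
  classical
  let e : Fin (Fintype.card J) ≃ J := (Fintype.equivFin J).symm
  let f : Fin (Fintype.card J) → C := fun i => t (e i)
  have hm : ∀ i, f i ∈ maximalIdeal C := fun i => ht (e i)
  have hf : LinearIndependent (ResidueField C) (fun i => (maximalIdeal C).toCotangent ⟨f i, hm i⟩) :=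
    hlin.comp e e.injective
  have hfp : ∀ i, (Ideal.span {f i}).IsPrime := fun i => hprime (e i)
  have hprod : ∏ j, t j = ∏ i, f i := (Equiv.prod_comp e t).symm
  rw [hprod] at het
  have hf0 : ∀ i, f i ≠ 0 := KummerFinite.ne_zero_of_linearIndependent f hm hf
  have htame := isTameAlong C f hf0 S
  obtain ⟨n, hn1, hn2, ψ, hψ⟩ := K151.KumDom.exists_injective_algHom C f hm hf S htame
  let R := ψ.range
  let θ : S ≃ₐ[C] R := AlgEquiv.ofInjective ψ hψ
  have hdR : IsDomain R := θ.symm.toMulEquiv.isDomain S
  have hRn : IsIntegrallyClosed R := IsIntegrallyClosed.of_equiv θ.toRingEquiv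
  have hun : ∀ i, IsUnit ((n i : ℕ) : C) := fun i => by
    rw [← residue_ne_zero_iff_isUnit, map_natCast]
    exact (hn2 i).ne_zero
  have hζ : ∀ i, ∃ z : C, IsPrimitiveRoot z (n i) := fun i =>
    Groth.Agent.Sga7.H510.KumAlg.exists_primitiveRoot C (hun i)
  have hne : ∀ i, NeZero (n i) := fun i => ⟨by have := hn1 i; omega⟩
  have hFin : Finite (K151.KumStruct.Gal C n) := inferInstance
  let : Fintype (K151.KumStruct.Gal C n) := Fintype.ofFinite _
  have hcard : IsUnit ((Fintype.card (K151.KumStruct.Gal C n) : ℕ) : C) := by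
    rw [← Nat.card_eq_fintype_card, Nat.card_pi]
    have h1 : ∀ i, Nat.card (rootsOfUnity (n i) C) = n i := fun i => by
      obtain ⟨z, hz⟩ := hζ i
      exact hz.card_rootsOfUnity
    rw [Finset.prod_congr rfl fun i _ => h1 i, Nat.cast_prod]
    rw [IsUnit.prod_univ_iff]
    exact hun
  obtain ⟨M, d, hd, hmem, honto, τ, h1, h2, h3⟩ := KumSub.main f hm hf n hn1 hζ hcard e R
  refine ⟨M, d, hd, hmem, honto, (θ.symm : R →* S).comp τ, ?_, ?_, ?_⟩
  · intro j
    change θ.symm (τ _) = _
    rw [h1 j, AlgEquiv.commutes]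
    simp only [f, e.apply_symm_apply]
  · exact h2.map' (θ.symm.toLinearEquiv : R →ₗ[C] S) (LinearEquiv.ker _)
  · have h4 := congrArg (Submodule.map (θ.symm.toLinearEquiv : R →ₗ[C] S)) h3
    rw [Submodule.map_span, ← Set.range_comp, Submodule.map_top, LinearEquiv.range] at h4
    exact h4

end K891.SH
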