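import Groth.Agent.Resolve.K891.Cut2
import Groth.Agent.Resolve.K891.SH
import Groth.Agent.Resolve.K891.KumPush
import Groth.Agent.Resolve.K891.Hens
import Groth.Agent.Resolve.K891.Factor

/-!
# (5a): existence of strictly henselian Kummer charts
-/

set_option autoImplicit false

universe u

open IsLocalRing TensorProduct Groth.Agent.CalgC.IndEtale K84.Iface

namespace K891.FiveA

open K891.Cut

/-- étaleness of `W → W ⊗ S`, abstract form -/
theorem etale_factor' {A B C S W T : Type u} [CommRing A] [CommRing B] [CommRing C] [CommRing S] [CommRing W]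
    [CommRing T] [Algebra A B] [Algebra A C] [Algebra B S] [Algebra C S] [Algebra C W] [Algebra W T]
    [Algebra C T] [IsScalarTower C W T] [Algebra S T] [IsScalarTower C S T]
    (hcomm : (algebraMap B S).comp (algebraMap A B) = (algebraMap C S).comp (algebraMap A C))
    (hAC : IsIndEtale A C) (hBS : IsIndEtale B S) [Module.Finite W T] [IsNoetherianRing C] (w : C) (g : A)
    [IsLocalization.Away w W] [IsLocalization (Algebra.algebraMapSubmonoid S (Submonoid.powers w)) T]
    (het : Algebra.Etale A (Localization.Away (algebraMap A B g)))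
    (hg : IsUnit (algebraMap C W (algebraMap A C g))) : Algebra.Etale W T := by
  let : Algebra B T := ((algebraMap S T).comp (algebraMap B S)).toAlgebra
  have tBST : IsScalarTower B S T := IsScalarTower.of_algebraMap_eq fun _ => rfl
  let : Algebra A T := ((algebraMap B T).comp (algebraMap A B)).toAlgebra
  have tABT : IsScalarTower A B T := IsScalarTower.of_algebraMap_eq fun _ => rfl
  have tACT : IsScalarTower A C T := IsScalarTower.of_algebraMap_eq fun a => by
    change algebraMap S T (algebraMap B S (algebraMap A B a)) = _
    have h := RingHom.congr_fun hcomm a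
    rw [RingHom.comp_apply, RingHom.comp_apply] at h
    rw [h, ← IsScalarTower.algebraMap_apply C S T]
  have h1 : IsIndEtale S T := isIndEtale_of_isLocalization (Algebra.algebraMapSubmonoid S (Submonoid.powers w)) T
  have h2 : IsIndEtale B T := IsInd.comp isGood_etale hBS h1
  have hN : IsNoetherianRing W := IsLocalization.isNoetherianRing (Submonoid.powers w) W inferInstance
  refine Factor.etale_of_tower (A := A) (B := B) (C := C) (W := W) (T := T) hAC h2 w g het ?_
  rw [IsScalarTower.algebraMap_apply A C T, IsScalarTower.algebraMap_apply C W T]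
  exact hg.map _

/-- étaleness of `W → W ⊗ S` -/
theorem etale_factor {A B C S : Type u} [CommRing A] [CommRing B] [CommRing C] [CommRing S]
    [Algebra A B] [Algebra A C] [Algebra B S] [Algebra C S]
    (hcomm : (algebraMap B S).comp (algebraMap A B) = (algebraMap C S).comp (algebraMap A C))
    (hAC : IsIndEtale A C) (hBS : IsIndEtale B S) [Module.Finite C S] [IsNoetherianRing C] (w : C) (g : A)
    (het : Algebra.Etale A (Localization.Away (algebraMap A B g)))
    (hg : IsUnit (algebraMap C (Localization.Away w) (algebraMap A C g))) :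
    Algebra.Etale (Localization.Away w) (Localization.Away w ⊗[C] S) := by
  let : Algebra S (Localization.Away w ⊗[C] S) := Algebra.TensorProduct.rightAlgebra
  have tCST : IsScalarTower C S (Localization.Away w ⊗[C] S) := Algebra.TensorProduct.right_isScalarTower
  have hloc : IsLocalization (Algebra.algebraMapSubmonoid S (Submonoid.powers w)) (Localization.Away w ⊗[C] S) :=
    IsLocalization.tensorRight (Localization.Away w) (Submonoid.powers w)
  exact etale_factor' (A := A) (B := B) (C := C) (S := S) hcomm hAC hBS w g het hg

theorem isPrime_span {H : Type u} [CommRing H] [IsRegularLocalRing H] {J : Type} (f : J → H)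
    (hm : ∀ i, f i ∈ maximalIdeal H)
    (hf : LinearIndependent (ResidueField H) (fun i => (maximalIdeal H).toCotangent ⟨f i, hm i⟩)) (i : J) :
    (Ideal.span {f i}).IsPrime := by
  have h2 : f i ∉ maximalIdeal H ^ 2 := by
    intro h
    exact hf.ne_zero i (((maximalIdeal H).toCotangent_eq_zero ⟨f i, hm i⟩).2 h)
  have := Groth.Agent.Ega4A.RegDer.isRegularLocalRing_quotient_of_notMem_sq (hm i) h2
  have := Groth.Agent.CurvesC.RegNormal.isDomain (H ⧸ Ideal.span {f i})
  exact (Ideal.Quotient.isDomain_iff_prime _).1 inferInstance

/-- units in the localization -/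
theorem isUnit_aux {C W : Type u} [CommRing C] [CommRing W] [Algebra C W] {r : ℕ} (I : Finset (Fin r))
    (y : Fin r → C) [IsLocalization.Away (∏ j : I, y j) W] (h : ∀ i ∉ I, IsUnit (y i)) :
    IsUnit (algebraMap C W (∏ i, y i)) := by
  have h1 : IsUnit (algebraMap C W (∏ j : I, y j)) := IsLocalization.Away.algebraMap_isUnit (∏ j : I, y j)
  rw [map_prod, IsUnit.prod_univ_iff] at h1
  rw [map_prod, IsUnit.prod_univ_iff]
  intro i
  by_cases hi : i ∈ I
  · exact h1 ⟨i, hi⟩
  · exact (h i hi).map _

/-- `A → B_g` is étale -/
theorem etale_away {A B : Type u} [CommRing A] [CommRing B] [Algebra A B] (g : A)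
    (het : (Localization.awayMap (algebraMap A B) g).Etale) :
    Algebra.Etale A (Localization.Away (algebraMap A B g)) := by
  rw [← RingHom.etale_algebraMap]
  have h1 : algebraMap A (Localization.Away (algebraMap A B g)) =
      (Localization.awayMap (algebraMap A B) g).comp (algebraMap A (Localization.Away g)) := by
    ext a
    rw [RingHom.comp_apply, IsScalarTower.algebraMap_apply A B (Localization.Away (algebraMap A B g))]
    exact (IsLocalization.map_eq _ _).symm
  rw [h1]
  have h2 : (algebraMap A (Localization.Away g)).Etale := by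
    rw [RingHom.etale_algebraMap]
    exact Algebra.Etale.of_isLocalizationAway g
  exact RingHom.Etale.stableUnderComposition _ _ h2 het

/-- the core of (5a) -/
theorem core (K : Type u) [Field K] {A B C S : Type u} [CommRing A] [CommRing B] [CommRing C] [CommRing S]
    [Algebra K A] [Algebra A B] [Algebra K B] [IsScalarTower K A B] [Algebra A C] [Algebra B S] [Algebra C S]
    [IsRegularLocalRing C] [HenselianLocalRing C] [IsSepClosed (ResidueField C)] [CharZero (ResidueField C)]
    (q : Ideal B) [q.IsPrime] (hCp : (maximalIdeal C).comap (algebraMap A C) = q.comap (algebraMap A B))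
    (hAC : IsIndEtale A C) [IsLocalRing S] [IsDomain S] [IsIntegrallyClosed S] [Module.Finite C S]
    [FaithfulSMul C S] (hcomm : (algebraMap B S).comp (algebraMap A B) = (algebraMap C S).comp (algebraMap A C))
    (hSq : (maximalIdeal S).comap (algebraMap B S) = q) (hBS : IsIndEtale B S) {r : ℕ} (x : Fin r → A)
    (hflatx : ∀ I : Finset (Fin r), (∀ j : I, algebraMap A B (x j) ∈ q) →
      (MvPolynomial.aeval (fun j : I => x j) : MvPolynomial I K →ₐ[K] A).toRingHom.Flat)
    (hindx : ∀ (I : Finset (Fin r)) (hm : ∀ j : I, algebraMap A C (x j) ∈ maximalIdeal C),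
      LinearIndependent (ResidueField C) (fun j => (maximalIdeal C).toCotangent ⟨_, hm j⟩))
    (hetA : Algebra.Etale A (Localization.Away (algebraMap A B (∏ i, x i)))) :
    Nonempty (SHChart K B (fun i => algebraMap A B (x i)) q) := by
  classical
  have hCdom : IsDomain C := Groth.Agent.CurvesC.RegNormal.isDomain C
  let I : Finset (Fin r) := Finset.univ.filter fun i => algebraMap A B (x i) ∈ q
  have hI : ∀ i, i ∈ I ↔ algebraMap A B (x i) ∈ q := fun i => by simp [I]
  let tC : I → C := fun j => algebraMap A C (x j)
  have hmem𝔪 : ∀ a : A, algebraMap A C a ∈ maximalIdeal C ↔ algebraMap A B a ∈ q := by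
    intro a
    rw [← Ideal.mem_comap, hCp, Ideal.mem_comap]
  have htC : ∀ j, tC j ∈ maximalIdeal C := fun j => (hmem𝔪 _).mpr ((hI j).mp j.2)
  have hlin : LinearIndependent (ResidueField C) (fun j : I => (maximalIdeal C).toCotangent ⟨tC j, htC j⟩) :=
    hindx I htC
  have hprime : ∀ j, (Ideal.span {tC j}).IsPrime := isPrime_span tC htC hlin
  have hunit : IsUnit (algebraMap C (Localization.Away (∏ j, tC j)) (algebraMap A C (∏ i, x i))) := by
    rw [map_prod (algebraMap A C)]
    exact isUnit_aux I (fun i => algebraMap A C (x i)) fun i hi => by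
      by_contra hu
      exact hi ((hI i).mpr ((hmem𝔪 _).mp hu))
  have hetS : Algebra.Etale (Localization.Away (∏ j, tC j)) (Localization.Away (∏ j, tC j) ⊗[C] S) :=
    etale_factor hcomm hAC hBS (∏ j, tC j) (∏ i, x i) hetA hunit
  obtain ⟨M, d, hd, hmem, honto, τ, h1, h2, h3⟩ := SH.main C tC htC hlin hprime S hetS
  let : Algebra K C := ((algebraMap A C).comp (algebraMap K A)).toAlgebra
  let : Algebra K S := ((algebraMap B S).comp (algebraMap K B)).toAlgebra
  have tKBS : IsScalarTower K B S := IsScalarTower.of_algebraMap_eq fun _ => rfl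
  have tKAC : IsScalarTower K A C := IsScalarTower.of_algebraMap_eq fun _ => rfl
  have tKCS : IsScalarTower K C S := IsScalarTower.of_algebraMap_eq fun c => by
    change algebraMap B S (algebraMap K B c) = algebraMap C S (algebraMap A C (algebraMap K A c))
    have h := RingHom.congr_fun hcomm (algebraMap K A c)
    rw [RingHom.comp_apply, RingHom.comp_apply, ← IsScalarTower.algebraMap_apply K A B] at h
    exact h
  have hflatC : (MvPolynomial.aeval tC : MvPolynomial I K →ₐ[K] C).toRingHom.Flat := by
    have h4 : (MvPolynomial.aeval tC : MvPolynomial I K →ₐ[K] C).toRingHom =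
        (algebraMap A C).comp (MvPolynomial.aeval (fun j : I => x j) : MvPolynomial I K →ₐ[K] A).toRingHom := by
      refine MvPolynomial.ringHom_ext (fun a => ?_) (fun j => ?_)
      · change MvPolynomial.aeval tC (MvPolynomial.C a) =
          algebraMap A C (MvPolynomial.aeval _ (MvPolynomial.C a))
        rw [MvPolynomial.aeval_C, MvPolynomial.aeval_C, ← IsScalarTower.algebraMap_apply]
      · change MvPolynomial.aeval tC (MvPolynomial.X j) =
          algebraMap A C (MvPolynomial.aeval _ (MvPolynomial.X j))
        rw [MvPolynomial.aeval_X, MvPolynomial.aeval_X]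
    rw [h4]
    refine RingHom.Flat.comp (hflatx I (fun j => (hI j).mp j.2)) ?_
    rw [RingHom.flat_algebraMap_iff]
    exact K580.HullBij.flat hAC
  have hτ : ∀ j, τ (Multiplicative.ofAdd (KumPush.axd hmem j)) = algebraMap C S (tC j) := h1
  have hflat : (lift K τ).Flat := KumPush.flat hd hmem tC τ hτ h2 h3 hflatC
  have hNS : IsNoetherianRing S := IsNoetherianRing.of_finite C S
  have hreg : IsRegularLocalRing (S ⧸ KumPush.orig τ) := by
    obtain ⟨ε⟩ := KumPush.quotEquiv hd hmem tC τ hτ h2 h3
    have := Hens.isRegular_quotient tC htC hlin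
    exact IsRegularLocalRing.of_ringEquiv ε
  exact ⟨{ I := I, mem_I := hI, M := M, d := d, d_pos := hd, d_mem := hmem, onto := honto, S := S
           comap_maximalIdeal := hSq
           isIndEtale := hBS
           τ := τ
           τ_ax := fun j => by
            rw [h1 j]
            exact (RingHom.congr_fun hcomm (x j)).symm
           flat := hflat
           regular := hreg }⟩

/-- flatness of étale coordinates -/
theorem flat_coord (K : Type u) [Field K] {A : Type u} [CommRing A] [Algebra K A] {n : ℕ} {J : Type}
    [Algebra (MvPolynomial (Fin n) K) A] [IsScalarTower K (MvPolynomial (Fin n) K) A]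
    [Algebra.Etale (MvPolynomial (Fin n) K) A] (e : J → Fin n) (he : Function.Injective e) :
    (MvPolynomial.aeval (fun j : J => algebraMap (MvPolynomial (Fin n) K) A (MvPolynomial.X (e j))) :
      MvPolynomial J K →ₐ[K] A).toRingHom.Flat := by
  have h4 : (MvPolynomial.aeval (fun j : J => algebraMap (MvPolynomial (Fin n) K) A (MvPolynomial.X (e j))) :
      MvPolynomial J K →ₐ[K] A).toRingHom =
      (algebraMap (MvPolynomial (Fin n) K) A).comp
        (MvPolynomial.rename e : MvPolynomial J K →ₐ[K] MvPolynomial (Fin n) K).toRingHom := by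
    refine MvPolynomial.ringHom_ext (fun a => ?_) (fun j => ?_)
    · change MvPolynomial.aeval _ (MvPolynomial.C a) =
        algebraMap _ A (MvPolynomial.rename _ (MvPolynomial.C a))
      rw [MvPolynomial.aeval_C, MvPolynomial.rename_C, ← MvPolynomial.algebraMap_eq,
        ← IsScalarTower.algebraMap_apply K _ A]
    · change MvPolynomial.aeval _ (MvPolynomial.X j) =
        algebraMap _ A (MvPolynomial.rename _ (MvPolynomial.X j))
      rw [MvPolynomial.aeval_X, MvPolynomial.rename_X]
  rw [h4]
  refine RingHom.Flat.comp (Hens.flat_rename K e he) ?_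
  rw [RingHom.flat_algebraMap_iff]
  infer_instance

/-- **(5a)**, general form: some of the `x i` are units, the others are coordinates. -/
theorem main' (K : Type u) [Field K] [CharZero K] (A B : Type u) [CommRing A] [IsDomain A] [CommRing B]
    [IsDomain B] [IsIntegrallyClosed B] [Algebra K A] [Algebra A B] [Algebra K B] [IsScalarTower K A B]
    [Module.Finite A B] [FaithfulSMul A B] (n r : ℕ) [Algebra (MvPolynomial (Fin n) K) A]
    [IsScalarTower K (MvPolynomial (Fin n) K) A] [Algebra.Etale (MvPolynomial (Fin n) K) A]
    (x : Fin r → A) (T : Fin r → Prop) (e : {i // T i} → Fin n) (he : Function.Injective e)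
    (hx : ∀ i : {i // T i}, x i = algebraMap (MvPolynomial (Fin n) K) A (MvPolynomial.X (e i)))
    (hx' : ∀ i, ¬ T i → IsUnit (x i))
    (het : Algebra.Etale A (Localization.Away (algebraMap A B (∏ i, x i)))) (q : Ideal B) [q.IsPrime] :
    Nonempty (SHChart K B (fun i => algebraMap A B (x i)) q) := by
  classical
  obtain ⟨C, _, hCreg, _, hhens, hsep, hchar, hCp, hAC, hind⟩ :=
    Hens.exists_sh (K := K) (n := n) A (q.comap (algebraMap A B))
  have hCdom : IsDomain C := Groth.Agent.CurvesC.RegNormal.isDomain C
  obtain ⟨S, _, _, _, _, hcomm, hSdom, hSnorm, hSfin, hSfaith, hSq, hBS⟩ :=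
    Factor.exists_factor A B C hAC q hCp
  have hT : ∀ i, algebraMap A B (x i) ∈ q → T i := by
    intro i hi
    by_contra h
    exact (Ideal.IsPrime.ne_top inferInstance) (Ideal.eq_top_of_isUnit_mem _ hi ((hx' i h).map _))
  refine core K q hCp hAC hcomm hSq hBS x (fun I hI => ?_) (fun I hm => ?_) het
  · let e' : I → Fin n := fun j => e ⟨j, hT j (hI j)⟩
    have he' : Function.Injective e' := fun a b h => by
      have h3 := he h
      exact Subtype.ext (by simpa using h3)
    have h1 : (fun j : I => x j) = fun j : I => algebraMap (MvPolynomial (Fin n) K) A (MvPolynomial.X (e' j)) :=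
      funext fun j => hx ⟨j, hT j (hI j)⟩
    rw [h1]
    exact flat_coord K e' he'
  · have hI : ∀ j : I, algebraMap A B (x j) ∈ q := fun j => by
      rw [← Ideal.mem_comap, ← hCp, Ideal.mem_comap]
      exact hm j
    let e' : I → Fin n := fun j => e ⟨j, hT j (hI j)⟩
    have he' : Function.Injective e' := fun a b h => by
      have h3 := he h
      exact Subtype.ext (by simpa using h3)
    have h1 : ∀ j : I, x j = algebraMap (MvPolynomial (Fin n) K) A (MvPolynomial.X (e' j)) :=
      fun j => hx ⟨j, hT j (hI j)⟩
    have h2 := hind I e' he' (fun j => by rw [← h1]; exact hm j)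
    convert h2 using 3 with j
    exact Subtype.ext (congrArg (algebraMap A C) (h1 j))

/-- **(5a)** -/
theorem main (K : Type u) [Field K] [CharZero K] : FiveA K := by
  intro A B _ _ _ _ _ _ _ _ _ _ _ n r _ _ _ e he het q _
  exact main' K A B n r (fun i => algebraMap (MvPolynomial (Fin n) K) A (MvPolynomial.X (e i)))
    (fun _ => True) (fun i => e i) (he.comp Subtype.val_injective) (fun _ => rfl) (fun _ h => absurd trivial h)
    (etale_away _ het) q

end K891.FiveA
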